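import Groth.Agent.Lib.Helper2.DegAdd.EndFin
import Groth.Agent.S0002

set_option autoImplicit false
universe u v
open CategoryTheory CategoryTheory.Limits AlgebraicGeometry Opposite

namespace Groth.Agent.Lib.Helper2.DegAdd

variable {X : Scheme.{u}}

section Proper
variable (k : Type u) [Field k] [X.Over (Spec (CommRingCat.of k))]
  [IsProper (X ↘ Spec (CommRingCat.of k))]

/-- `Hom(F, G)` is finite-dimensional for coherent modules on a proper scheme over a field -/
theorem finite_hom (F G : X.Modules) (hF : Coh.IsCoh F) (hG : Coh.IsCoh G) :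
    Module.Finite k (F ⟶ G) := by
  have := isNoetherian_of_proper (X := X) k
  have hfin : Module.Finite k (Coh.HH X (RefHull.homSh F G) 0) :=
    Groth.Agent.S0002.result k X _ (isCoh_homSh F G hF hG) 0
  have : IsNoetherian k (Coh.HH X (RefHull.homSh F G) 0) :=
    isNoetherian_of_isNoetherianRing_of_finite k _
  exact Module.Finite.of_injective (homToH0 k F G) (homToH0_injective k F G)

/-- over an algebraically closed field, if every nonzero endomorphism of a nonzero coherent
module on a proper scheme is an isomorphism, every endomorphism is a scalar -/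
theorem endo_eq_smul_id_of_division [IsAlgClosed k] (E : X.Modules) (hE : Coh.IsCoh E)
    (hnz : ¬ IsZero E) (hdiv : ∀ ψ : E ⟶ E, ψ ≠ 0 → IsIso ψ) (φ : E ⟶ E) :
    ∃ c : k, φ = c • 𝟙 E := by
  have hfin : Module.Finite k (End E) := finite_hom k E E hE hE
  have hnt : Nontrivial (End E) :=
    ⟨⟨𝟙 E, 0, fun h => hnz ((IsZero.iff_id_eq_zero E).2 h)⟩⟩
  have hnzd : NoZeroDivisors (End E) := ⟨fun {a b} hab => by
    by_contra hcon
    push_neg at hcon
    have hiso := hdiv a hcon.1
    apply hcon.2
    have h1 : b ≫ a = 0 := hab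
    rw [← cancel_mono a]
    simpa using h1⟩
  have hdom : IsDomain (End E) := NoZeroDivisors.to_isDomain _
  have hint : Algebra.IsIntegral k (End E) := Algebra.IsIntegral.of_finite k (End E)
  obtain ⟨c, hc⟩ := (IsAlgClosed.algebraMap_bijective_of_isIntegral (k := k) (K := End E)).2 φ
  refine ⟨c, ?_⟩
  rw [← hc, Algebra.algebraMap_eq_smul_one]
  rfl

end Proper

/-- a scalar multiple of the identity acts on the underlying abelian sheaf by multiplication -/
theorem toSheaf_map_smul_id (k : Type u) [Field k] [X.Over (Spec (CommRingCat.of k))]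
    (E : X.Modules) (c : k) :
    (SheafOfModules.toSheaf X.ringCatSheaf).map (c • 𝟙 E) =
      Coh.smulAb E (Coh.toGlobal (X ↘ Spec (CommRingCat.of k)) c) := by
  rw [KLin.smul_id]
  rfl

end Groth.Agent.Lib.Helper2.DegAdd
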