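import Groth.Agent.Lib.Helper2.DegAdd.GenIso
import Groth.Agent.Lib.Helper29.QCohExt
import Groth.Agent.Lib.Helper28.DCohRes28

/-! # Line subbundles of extensions of line bundles on a smooth curve -/

set_option autoImplicit false
universe u v
open CategoryTheory CategoryTheory.Limits AlgebraicGeometry

namespace Groth.Agent.Lib.Helper2.DegAdd

variable {X : Scheme.{u}}

/-- the middle term of a short exact sequence of coherent modules is coherent -/
theorem isCoh_of_shortExact (S : ShortComplex X.Modules) (hS : S.ShortExact)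
    (h₁ : Coh.IsCoh S.X₁) (h₃ : Coh.IsCoh S.X₃) : Coh.IsCoh S.X₂ := by
  have := h₁.1
  have := h₁.2
  have := h₃.1
  have := h₃.2
  exact ⟨Groth.Agent.Lib.Helper29.QCoh.isQuasicoherent_of_shortExact S hS,
    Groth.Agent.Lib.Helper28.DCohRes.isFiniteType_of_shortExact S hS⟩

section Curve
variable (k : Type u) [Field k] [X.Over (Spec (CommRingCat.of k))]
  [IsIntegral X] [IsProper (X ↘ Spec (CommRingCat.of k))]
  [Smooth (X ↘ Spec (CommRingCat.of k))]

include k

/-- a nonzero map between line bundles on a smooth integral curve is a monomorphism -/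
theorem mono_of_ne_zero_rank_one (hdim : topologicalKrullDim X ≤ 1) {N M : X.Modules}
    (hN : FlatMod.IsFinLocFreeOfRank 1 N) (hM : FlatMod.IsFinLocFreeOfRank 1 M)
    (g : N ⟶ M) (hg : g ≠ 0) : Mono g := by
  obtain ⟨a, b, ha, hb, hrab, -⟩ := exists_ker_im_decomp k hdim 1 1 hN hM g
  have hb0 : 0 < b := by
    by_contra hb0
    have hb' : b = 0 := by omega
    subst hb'
    have hz := isZero_of_rank_zero hb
    apply hg
    rw [← Abelian.image.fac g, hz.eq_of_src (Abelian.image.ι g) 0, comp_zero]
  have ha0 : a = 0 := by omega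
  subst ha0
  exact Preadditive.mono_of_isZero_kernel g (isZero_of_rank_zero ha)

/-- an epimorphism between line bundles on a smooth integral curve is a monomorphism -/
theorem mono_of_epi_rank_one (hdim : topologicalKrullDim X ≤ 1) {N M : X.Modules}
    (hN : FlatMod.IsFinLocFreeOfRank 1 N) (hM : FlatMod.IsFinLocFreeOfRank 1 M)
    (g : N ⟶ M) [Epi g] : Mono g := by
  apply mono_of_ne_zero_rank_one k hdim hN hM g
  intro h0
  have hz : IsZero M := IsZero.of_epi_eq_zero g h0
  have := rank_eq_zero_of_isZero hM hz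
  omega

/-- Let `0 → L → E → M → 0` be exact with `L`, `M` line bundles, and `N ⊆ E` a line subbundle with
line bundle quotient. Then `N = L` as subobjects or `N → E → M` is a monomorphism. -/
theorem sub_eq_or_mono (hdim : topologicalKrullDim X ≤ 1) (S : ShortComplex X.Modules)
    (hS : S.ShortExact) (hL : FlatMod.IsFinLocFreeOfRank 1 S.X₁)
    (hM : FlatMod.IsFinLocFreeOfRank 1 S.X₃) (N : X.Modules)
    (hN : FlatMod.IsFinLocFreeOfRank 1 N) (j : N ⟶ S.X₂) [Mono j]
    (hq : FlatMod.IsFinLocFreeOfRank 1 (cokernel j)) :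
    (∃ φ : N ≅ S.X₁, φ.hom ≫ S.f = j) ∨ Mono (j ≫ S.g) := by
  by_cases hg : j ≫ S.g = 0
  · left
    have := hS.mono_f
    have := hS.epi_g
    have hφ : hS.exact.lift j hg ≫ S.f = j := hS.exact.lift_f j hg
    have hmφ : Mono (hS.exact.lift j hg) := by
      have : Mono (hS.exact.lift j hg ≫ S.f) := by rw [hφ]; infer_instance
      exact mono_of_mono (hS.exact.lift j hg) S.f
    have hψ : cokernel.π j ≫ cokernel.desc j S.g hg = S.g := cokernel.π_desc j S.g hg
    have heψ : Epi (cokernel.desc j S.g hg) := by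
      have : Epi (cokernel.π j ≫ cokernel.desc j S.g hg) := by rw [hψ]; infer_instance
      exact epi_of_epi (cokernel.π j) (cokernel.desc j S.g hg)
    have hmψ : Mono (cokernel.desc j S.g hg) :=
      mono_of_epi_rank_one k hdim hq hM (cokernel.desc j S.g hg)
    have h1 := deg_le_of_mono_same_rank k hdim (hS.exact.lift j hg) 1 hN hL
    have h2 := deg_le_of_mono_same_rank k hdim (cokernel.desc j S.g hg) 1 hq hM
    have hLc := isCoh_of_isFinLocFreeOfRank hL
    have hMc := isCoh_of_isFinLocFreeOfRank hM
    have hNc := isCoh_of_isFinLocFreeOfRank hN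
    have hQc := isCoh_of_isFinLocFreeOfRank hq
    have hEc := isCoh_of_shortExact S hS hLc hMc
    have e1 := Groth.Agent.S1524.result k X S hS hLc hEc hMc
    have hS' : (ShortComplex.mk j (cokernel.π j) (cokernel.condition j)).ShortExact :=
      ShortComplex.ShortExact.mk (ShortComplex.exact_cokernel j)
    have e2 := Groth.Agent.S1524.result k X _ hS' hNc hEc hQc
    have e2' : Curv2.euler k X S.X₂ = Curv2.euler k X N + Curv2.euler k X (cokernel j) := e2
    have hdeg : Curv2.deg k X N 1 = Curv2.deg k X S.X₁ 1 := by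
      unfold Curv2.deg at h1 h2 ⊢
      linarith
    have hiso := isIso_of_mono_of_deg_eq k hdim (hS.exact.lift j hg) 1 hN hL hdeg
    exact ⟨asIso (hS.exact.lift j hg), hφ⟩
  · right
    exact mono_of_ne_zero_rank_one k hdim hN hM (j ≫ S.g) hg

end Curve

end Groth.Agent.Lib.Helper2.DegAdd
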