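import Groth.Agent.Lib.Helper28.TrivLocus2
import Groth.Agent.Lib.Helper28.DCohStalk1
import Groth.Agent.Lib.Helper29.QCohLocFree
import Groth.Agent.Lib.Lead.LinLES.Biprod

/-! # Additivity of ranks of finite locally free modules in short exact sequences -/

set_option autoImplicit false
universe u
open CategoryTheory CategoryTheory.Limits AlgebraicGeometry

namespace Groth.Agent.Lib.Helper2.DegAdd

/-- ranks of finite free modules add up in short exact sequences (the right term is free) -/
theorem finrank_add_of_exact {R : Type u} [CommRing R] [Nontrivial R] {A B C : Type u}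
    [AddCommGroup A] [Module R A] [AddCommGroup B] [Module R B] [AddCommGroup C] [Module R C]
    [Module.Free R A] [Module.Finite R A] [Module.Free R C] [Module.Finite R C]
    (f : A →ₗ[R] B) (g : B →ₗ[R] C) (hf : Function.Injective f) (hg : Function.Surjective g)
    (hex : Function.Exact f g) :
    Module.finrank R B = Module.finrank R A + Module.finrank R C := by
  obtain ⟨l, hl⟩ := Module.projective_lifting_property g LinearMap.id hg
  have e := (hex.splitSurjectiveEquiv hf ⟨l, hl⟩).1
  rw [e.finrank_eq, Module.finrank_prod]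

variable {X : Scheme.{u}}

theorem finrank_stalk_of_isFinLocFreeOfRank {n : ℕ} {M : X.Modules}
    (h : FlatMod.IsFinLocFreeOfRank n M) (x : X) :
    Module.finrank (X.presheaf.stalk x) (M.presheaf.stalk x) = n := by
  obtain ⟨U, hx, ⟨e⟩⟩ := h x
  exact Groth.Agent.Lib.Helper28.TrivLocus.finrank_stalk_of_restrict_iso U.ι ⟨x, hx⟩ n e

theorem rank_add_of_shortExact (S : ShortComplex X.Modules) (hS : S.ShortExact)
    (n₁ n₂ n₃ : ℕ) (h₁ : FlatMod.IsFinLocFreeOfRank n₁ S.X₁)
    (h₂ : FlatMod.IsFinLocFreeOfRank n₂ S.X₂) (h₃ : FlatMod.IsFinLocFreeOfRank n₃ S.X₃) (x : X) :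
    n₂ = n₁ + n₃ := by
  have hS' : (S.map (DerSch.stalkFunctor X x)).ShortExact := hS.map_of_exact _
  have hex := (ShortComplex.ShortExact.moduleCat_exact_iff_function_exact _).1 hS'.exact
  have hinj : Function.Injective ((DerSch.stalkFunctor X x).map S.f).hom :=
    (ModuleCat.mono_iff_injective _).1 hS'.mono_f
  have hsurj : Function.Surjective ((DerSch.stalkFunctor X x).map S.g).hom :=
    (ModuleCat.epi_iff_surjective _).1 hS'.epi_g
  obtain ⟨hf₁, hfin₁⟩ := Groth.Agent.Lib.Helper28.DCohRes.stalkFF_of_isFinLocFree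
    (Groth.Agent.Lib.Helper29.QCoh.isFinLocFree_of_isFinLocFreeOfRank h₁) x
  obtain ⟨hf₃, hfin₃⟩ := Groth.Agent.Lib.Helper28.DCohRes.stalkFF_of_isFinLocFree
    (Groth.Agent.Lib.Helper29.QCoh.isFinLocFree_of_isFinLocFreeOfRank h₃) x
  have hadd := finrank_add_of_exact (R := X.presheaf.stalk x)
    (A := S.X₁.presheaf.stalk x) (B := S.X₂.presheaf.stalk x) (C := S.X₃.presheaf.stalk x)
    ((DerSch.stalkFunctor X x).map S.f).hom ((DerSch.stalkFunctor X x).map S.g).hom
    hinj hsurj hex
  rw [finrank_stalk_of_isFinLocFreeOfRank h₁, finrank_stalk_of_isFinLocFreeOfRank h₂,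
    finrank_stalk_of_isFinLocFreeOfRank h₃] at hadd
  exact hadd

theorem isZero_of_isEmpty [IsEmpty X] (M : X.Modules) : IsZero M := by
  rw [IsZero.iff_id_eq_zero]
  apply Scheme.Modules.hom_ext
  intro V
  ext x
  have hA : V = ⊥ := by
    ext y
    exact (IsEmpty.false y).elim
  have ht : IsTerminal ((⟨M.presheaf, M.isSheaf⟩ : TopCat.Sheaf Ab X).obj.obj (Opposite.op V)) :=
    TopCat.Sheaf.isTerminalOfEqEmpty _ hA
  have hz : IsZero (M.presheaf.obj (Opposite.op V)) :=
    IsZero.of_iso (isZero_zero _) (ht.uniqueUpToIso HasZeroObject.zeroIsTerminal)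
  have hsub : Subsingleton Γ(M, V) := AddCommGrpCat.subsingleton_of_isZero hz
  exact hsub.elim _ _

theorem isCoh_of_isFinLocFreeOfRank {n : ℕ} {M : X.Modules}
    (h : FlatMod.IsFinLocFreeOfRank n M) : Coh.IsCoh M := by
  have h' := Groth.Agent.Lib.Helper29.QCoh.isFinLocFree_of_isFinLocFreeOfRank h
  have := Groth.Agent.Lib.Helper29.QCoh.isFinitePresentation_of_isFinLocFree h'
  have := Groth.Agent.Lib.Helper29.QCoh.isQuasicoherent_of_isFinLocFree h'
  exact ⟨inferInstance, inferInstance⟩

theorem subsingleton_HH_of_isZero (A : Type u) [CommRing A] [X.Over (Spec (CommRingCat.of A))]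
    {M : X.Modules} (h : IsZero M) (q : ℕ) : Subsingleton (Coh.HH X M q) := by
  refine subsingleton_of_forall_eq 0 fun x => ?_
  have hz : Canon.HHlin A (0 : M ⟶ M) q x = 0 := by
    have h1 := Groth.Agent.Lib.Lead.LinLES.HHlin_sum A (∅ : Finset (Fin 1))
      (fun _ => (0 : M ⟶ M)) q x
    rw [Finset.sum_empty, Finset.sum_empty] at h1
    exact h1
  rw [← Groth.Agent.Lib.Lead.LinLES.HHlin_id A M q x, h.eq_of_src (𝟙 M) 0, hz]

theorem euler_eq_zero_of_isEmpty (k : Type u) [Field k] [X.Over (Spec (CommRingCat.of k))]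
    [IsEmpty X] (M : X.Modules) : Curv2.euler k X M = 0 := by
  unfold Curv2.euler
  have : ∀ i : ℕ, (-1 : ℤ) ^ i * (Module.finrank k (Coh.HH X M i) : ℤ) = 0 := by
    intro i
    have hsub := subsingleton_HH_of_isZero k (isZero_of_isEmpty M) i
    rw [Module.finrank_zero_of_subsingleton]
    simp
  simp only [this]
  exact finsum_zero

end Groth.Agent.Lib.Helper2.DegAdd
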