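import Groth.Agent.Lib.Helper2.DegAdd.KerIm

/-! # Ranks and degrees of direct summands -/

set_option autoImplicit false
universe u v
open CategoryTheory CategoryTheory.Limits AlgebraicGeometry

namespace Groth.Agent.Lib.Helper2.DegAdd

section Abstract
variable {C : Type u} [Category.{v} C] [Abelian C]

/-- the split short exact sequence attached to a decomposition `E ≅ E₁ ⊞ E₂` -/
theorem shortExact_of_iso_biprod {E E₁ E₂ : C} (e : E ≅ E₁ ⊞ E₂) :
    (ShortComplex.mk (biprod.inl ≫ e.inv) (e.hom ≫ biprod.snd)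
      (by simp : (biprod.inl ≫ e.inv) ≫ (e.hom ≫ biprod.snd) = 0)).ShortExact := by
  refine ShortComplex.Splitting.shortExact
    { r := e.hom ≫ biprod.fst
      s := biprod.inr ≫ e.inv
      f_r := by simp
      s_g := by simp
      id := ?_ }
  dsimp
  rw [← cancel_epi e.inv, ← cancel_mono e.hom]
  simp only [Preadditive.comp_add, Preadditive.add_comp, Category.assoc, Iso.inv_hom_id,
    Iso.inv_hom_id_assoc, Category.comp_id]
  exact biprod.total

end Abstract

variable {X : Scheme.{u}}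

theorem exists_rank_biprod (k : Type u) [Field k] [X.Over (Spec (CommRingCat.of k))]
    [IsIntegral X] [IsProper (X ↘ Spec (CommRingCat.of k))] (hdim : topologicalKrullDim X ≤ 1)
    {E E₁ E₂ : X.Modules} (r : ℕ) (hE : FlatMod.IsFinLocFreeOfRank r E) (e : E ≅ E₁ ⊞ E₂) :
    ∃ r₁ r₂ : ℕ, FlatMod.IsFinLocFreeOfRank r₁ E₁ ∧ FlatMod.IsFinLocFreeOfRank r₂ E₂ ∧
      r = r₁ + r₂ ∧ Curv2.deg k X E r = Curv2.deg k X E₁ r₁ + Curv2.deg k X E₂ r₂ := by
  have hE' := Groth.Agent.Lib.Helper29.QCoh.isFinLocFree_of_isFinLocFreeOfRank hE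
  have h₁ : FlatMod.IsFinLocFree E₁ :=
    Groth.Agent.Lib.Helper29.QCoh.isFinLocFree_of_retract (biprod.inl ≫ e.inv)
      (e.hom ≫ biprod.fst) (by simp) hE'
  have h₂ : FlatMod.IsFinLocFree E₂ :=
    Groth.Agent.Lib.Helper29.QCoh.isFinLocFree_of_retract (biprod.inr ≫ e.inv)
      (e.hom ≫ biprod.snd) (by simp) hE'
  obtain ⟨r₁, hr₁⟩ := exists_rank_of_isFinLocFree h₁
  obtain ⟨r₂, hr₂⟩ := exists_rank_of_isFinLocFree h₂
  have hS := shortExact_of_iso_biprod e
  have x : X := Classical.arbitrary X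
  have hr := rank_add_of_shortExact _ hS r₁ r r₂ hr₁ hE hr₂ x
  have hd := Groth.Agent.S7643.result k X hdim _ hS r₁ r r₂ hr₁ hE hr₂
  exact ⟨r₁, r₂, hr₁, hr₂, hr, hd⟩

end Groth.Agent.Lib.Helper2.DegAdd
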