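import Groth.Agent.Lib.Helper2.DegAdd.Basic
import Groth.Agent.S0458
import Groth.Agent.S0002

/-! # Upper bound for the degrees of locally free submodules on a proper curve -/

set_option autoImplicit false
universe u
open CategoryTheory CategoryTheory.Limits AlgebraicGeometry

namespace Groth.Agent.Lib.Helper2.DegAdd

variable {X : Scheme.{u}}

/-- a scheme proper over a field is Noetherian -/
theorem isNoetherian_of_proper (k : Type u) [Field k] [X.Over (Spec (CommRingCat.of k))]
    [IsProper (X ↘ Spec (CommRingCat.of k))] : IsNoetherian X := by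
  have h1 : IsLocallyNoetherian X :=
    LocallyOfFiniteType.isLocallyNoetherian (X ↘ Spec (CommRingCat.of k))
  have h2 : CompactSpace X :=
    QuasiCompact.compactSpace_of_compactSpace (X ↘ Spec (CommRingCat.of k))
  exact { }

/-- Grothendieck vanishing on a Noetherian scheme of dimension `≤ 1` -/
theorem subsingleton_HH_of_dim_le_one [IsNoetherian X] (hdim : topologicalKrullDim X ≤ 1)
    (F : X.Modules) (p : ℕ) (hp : 1 < p) : Subsingleton (Coh.HH X F p) := by
  have : TopologicalSpace.NoetherianSpace X.toTopCat :=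
    (inferInstance : TopologicalSpace.NoetherianSpace X)
  exact Groth.Agent.S0458.result (X := X.toTopCat) 1 hdim (Coh.toAb F) p hp

/-- the Euler characteristic on a Noetherian scheme of dimension `≤ 1` is `h⁰ − h¹` -/
theorem euler_eq_h0_sub_h1 (k : Type u) [Field k] [X.Over (Spec (CommRingCat.of k))]
    [IsNoetherian X] (hdim : topologicalKrullDim X ≤ 1) (F : X.Modules) :
    Curv2.euler k X F =
      (Module.finrank k (Coh.HH X F 0) : ℤ) - (Module.finrank k (Coh.HH X F 1) : ℤ) := by
  unfold Curv2.euler
  rw [finsum_eq_sum_of_support_subset (s := Finset.range 2)]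
  · rw [Finset.sum_range_succ, Finset.sum_range_one]
    ring
  · intro i hi
    by_contra hni
    apply hi
    have h2 : 1 < i := by
      have : ¬ i < 2 := fun h => hni (Finset.mem_coe.mpr (Finset.mem_range.mpr h))
      omega
    have := subsingleton_HH_of_dim_le_one hdim F i h2
    change (-1 : ℤ) ^ i * (Module.finrank k (Coh.HH X F i) : ℤ) = 0
    rw [Module.finrank_zero_of_subsingleton]
    simp

/-- `h⁰` is monotone along monomorphisms -/
theorem h0_le_of_mono (k : Type u) [Field k] [X.Over (Spec (CommRingCat.of k))]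
    {F E : X.Modules} (i : F ⟶ E) [Mono i] [Module.Finite k (Coh.HH X E 0)] :
    Module.finrank k (Coh.HH X F 0) ≤ Module.finrank k (Coh.HH X E 0) := by
  have hS : (ShortComplex.mk i (cokernel.π i) (cokernel.condition i)).ShortExact :=
    ShortComplex.ShortExact.mk (ShortComplex.exact_cokernel i)
  have hm : CategoryTheory.Mono (Groth.Agent.Lib.Lead.LinLES.abMap i) :=
    (Groth.Agent.Lib.Lead.LinLES.abS_shortExact _ hS).mono_f
  have h₀ : Function.Injective (Canon.HHlin k i 0) :=
    CategoryTheory.Abelian.Ext.postcomp_mk₀_injective_of_mono _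
      (Groth.Agent.Lib.Lead.LinLES.abMap i)
  exact LinearMap.finrank_le_finrank_of_injective h₀

/-- ranks are monotone along monomorphisms of finite locally free modules -/
theorem rank_le_of_mono {F E : X.Modules} (i : F ⟶ E) [Mono i] (r' r : ℕ)
    (hF : FlatMod.IsFinLocFreeOfRank r' F) (hE : FlatMod.IsFinLocFreeOfRank r E) (x : X) :
    r' ≤ r := by
  have hm : Mono ((DerSch.stalkFunctor X x).map i) := inferInstance
  have hinj : Function.Injective ((DerSch.stalkFunctor X x).map i).hom :=
    (ModuleCat.mono_iff_injective _).1 hm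
  obtain ⟨hf₂, hfin₂⟩ := Groth.Agent.Lib.Helper28.DCohRes.stalkFF_of_isFinLocFree
    (Groth.Agent.Lib.Helper29.QCoh.isFinLocFree_of_isFinLocFreeOfRank hE) x
  have hle := LinearMap.finrank_le_finrank_of_injective (R := X.presheaf.stalk x)
    (M := F.presheaf.stalk x) (M' := E.presheaf.stalk x)
    (f := ((DerSch.stalkFunctor X x).map i).hom) hinj
  rw [finrank_stalk_of_isFinLocFreeOfRank hF, finrank_stalk_of_isFinLocFreeOfRank hE] at hle
  exact hle

/-- the degrees of finite locally free submodules of a finite locally free module on a proper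
scheme of dimension `≤ 1` over a field are bounded above -/
theorem deg_le_of_mono (k : Type u) [Field k] [X.Over (Spec (CommRingCat.of k))]
    [IsProper (X ↘ Spec (CommRingCat.of k))] [Nonempty X] (hdim : topologicalKrullDim X ≤ 1)
    (r : ℕ) (E : X.Modules) (hE : FlatMod.IsFinLocFreeOfRank r E)
    (F : X.Modules) (r' : ℕ) (i : F ⟶ E) [Mono i] (hF : FlatMod.IsFinLocFreeOfRank r' F) :
    Curv2.deg k X F r' ≤ (Module.finrank k (Coh.HH X E 0) : ℤ) +
      r * |Curv2.euler k X (Coh.structureModule X)| := by
  have := isNoetherian_of_proper (X := X) k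
  have hfin : Module.Finite k (Coh.HH X E 0) :=
    Groth.Agent.S0002.result k X _ (isCoh_of_isFinLocFreeOfRank hE) 0
  have h0 := h0_le_of_mono k i
  have hr : r' ≤ r := rank_le_of_mono i r' r hF hE (Classical.arbitrary X)
  unfold Curv2.deg
  rw [euler_eq_h0_sub_h1 k hdim F]
  have h1 : (0 : ℤ) ≤ (Module.finrank k (Coh.HH X F 1) : ℤ) := Int.natCast_nonneg _
  have h0' : (Module.finrank k (Coh.HH X F 0) : ℤ) ≤ (Module.finrank k (Coh.HH X E 0) : ℤ) := by
    exact_mod_cast h0
  have habs : -((r' : ℤ) * Curv2.euler k X (Coh.structureModule X)) ≤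
      (r : ℤ) * |Curv2.euler k X (Coh.structureModule X)| := by
    have hr' : (r' : ℤ) ≤ (r : ℤ) := by exact_mod_cast hr
    have ha := neg_abs_le (Curv2.euler k X (Coh.structureModule X))
    have hb := abs_nonneg (Curv2.euler k X (Coh.structureModule X))
    have hc : (0 : ℤ) ≤ (r' : ℤ) := Int.natCast_nonneg _
    nlinarith
  linarith

end Groth.Agent.Lib.Helper2.DegAdd
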