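import Groth.Agent.Lib.Helper2.DegAdd.Sat
import Groth.Agent.Lib.Helper28.DCohRes22
import Groth.Agent.Lib.Helper29.HomSec3
import Groth.Prelude.Def_KLin

/-! # Finite-dimensionality of `Hom(F, G)` for coherent modules on a proper scheme over a field,
and endomorphisms of stable bundles (helper2) -/

set_option autoImplicit false
universe u v
open CategoryTheory CategoryTheory.Limits AlgebraicGeometry Opposite

namespace Groth.Agent.Lib.Helper2.DegAdd

variable {X : Scheme.{u}}

/-- morphisms of modules are determined by their stalk maps -/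
theorem hom_ext_stalkMapₗ {F G : X.Modules} (φ ψ : F ⟶ G)
    (h : ∀ x, RefHull.stalkMapₗ φ x = RefHull.stalkMapₗ ψ x) : φ = ψ := by
  apply Scheme.Modules.hom_ext
  intro U
  ext m
  apply Groth.Agent.Lib.Helper29.QCoh.section_ext G
  intro x hx
  rw [← RefHull.stalkMapₗ_germ φ x hx m, ← RefHull.stalkMapₗ_germ ψ x hx m, h x]

theorem ofHom_injective {F G : X.Modules} (φ ψ : F ⟶ G)
    (h : RefHull.ofHom φ ⊤ = RefHull.ofHom ψ ⊤) : φ = ψ := by
  apply hom_ext_stalkMapₗ
  intro x
  have := congrFun (congrArg Subtype.val h) ⟨x, trivial⟩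
  exact this

theorem ofHom_add {F G : X.Modules} (φ ψ : F ⟶ G) (U : X.Opens) :
    RefHull.ofHom (φ + ψ) U = RefHull.ofHom φ U + RefHull.ofHom ψ U := by
  apply Groth.Agent.Lib.Helper29.QCoh.HomSec.homSh_ext
  intro y hy
  exact Groth.Agent.Lib.Helper28.DCohRes.stalkMapₗ_add φ ψ y

section Over
variable (k : Type u) [Field k] [X.Over (Spec (CommRingCat.of k))]

theorem stalkMapₗ_smul {F G : X.Modules} (c : k) (φ : F ⟶ G) (x : X) :
    RefHull.stalkMapₗ (c • φ) x =
      X.presheaf.germ ⊤ x trivial (Coh.toGlobal (X ↘ Spec (CommRingCat.of k)) c) •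
        RefHull.stalkMapₗ φ x := by
  apply LinearMap.ext
  intro v
  obtain ⟨U, hx, m, rfl⟩ := TopCat.Presheaf.exists_germ_eq F.presheaf v
  rw [LinearMap.smul_apply, RefHull.stalkMapₗ_germ, RefHull.stalkMapₗ_germ,
    KLin.smul_app_apply, Mero.germ_smul, TopCat.Presheaf.germ_res_apply]

/-- the image of a scalar in the global functions, typed as a section of the structure presheaf -/
noncomputable def scalTop (c : k) : Γ(X, ⊤) := Coh.toGlobal (X ↘ Spec (CommRingCat.of k)) c

theorem ofHom_smul {F G : X.Modules} (c : k) (φ : F ⟶ G) :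
    RefHull.ofHom (c • φ) ⊤ = scalTop (X := X) k c • RefHull.ofHom φ ⊤ := by
  apply Groth.Agent.Lib.Helper29.QCoh.HomSec.homSh_ext
  intro y hy
  exact stalkMapₗ_smul k c φ y

/-- the `k`-linear injection of `Hom(F, G)` into `H⁰` of the sheaf Hom -/
noncomputable def homToH0 (F G : X.Modules) :
    (F ⟶ G) →ₗ[k] Coh.HH X (RefHull.homSh F G) 0 where
  toFun φ := (Sheaf.H.equiv₀ (Coh.toAb (RefHull.homSh F G))
    (isTerminalTop : IsTerminal (⊤ : TopologicalSpace.Opens X))).symm (RefHull.ofHom φ ⊤)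
  map_add' φ ψ := by
    rw [ofHom_add]
    exact map_add _ _ _
  map_smul' c φ := by
    rw [ofHom_smul]
    change _ = Sheaf.H.map (Coh.smulAb (RefHull.homSh F G)
      (Coh.toGlobal (X ↘ Spec (CommRingCat.of k)) c)) 0 _
    rw [Sheaf.H.equiv₀_symm_naturality]
    congr 1
    refine Eq.trans ?_ (Coh.smulAb_app (RefHull.homSh F G)
      (Coh.toGlobal (X ↘ Spec (CommRingCat.of k)) c) (op ⊤) (RefHull.ofHom φ ⊤)).symm
    have hres : Coh.resTop X (op ⊤) (Coh.toGlobal (X ↘ Spec (CommRingCat.of k)) c) =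
        Coh.toGlobal (X ↘ Spec (CommRingCat.of k)) c := by
      have h1 : (homOfLE (le_top (a := (op (⊤ : X.Opens)).unop))).op = 𝟙 (op (⊤ : X.Opens)) :=
        Subsingleton.elim _ _
      change (X.ringCatSheaf.obj.map (homOfLE (le_top (a := (op (⊤ : X.Opens)).unop))).op).hom _ = _
      rw [h1, CategoryTheory.Functor.map_id]
      rfl
    rw [hres]
    rfl

theorem homToH0_injective (F G : X.Modules) : Function.Injective (homToH0 k F G) := by
  intro φ ψ h
  exact ofHom_injective φ ψ ((Sheaf.H.equiv₀ _ _).symm.injective h)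

end Over

end Groth.Agent.Lib.Helper2.DegAdd
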