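import Groth.Agent.Lib.Helper2.DegAdd.Biprod

/-! # Monomorphisms of vector bundles of the same rank are generically isomorphisms -/

set_option autoImplicit false
universe u v
open CategoryTheory CategoryTheory.Limits AlgebraicGeometry

namespace Groth.Agent.Lib.Helper2.DegAdd

variable {X : Scheme.{u}}

theorem subsingleton_cokernel_generic [IsIntegral X] {E F : X.Modules} (f : E ⟶ F) [Mono f]
    (r : ℕ) (hE : FlatMod.IsFinLocFreeOfRank r E) (hF : FlatMod.IsFinLocFreeOfRank r F) :
    Subsingleton ((cokernel f).presheaf.stalk (genericPoint X)) := by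
  have hS : (ShortComplex.mk f (cokernel.π f) (cokernel.condition f)).ShortExact :=
    ShortComplex.ShortExact.mk (ShortComplex.exact_cokernel f)
  have hS' : ((ShortComplex.mk f (cokernel.π f) (cokernel.condition f)).map
      (DerSch.stalkFunctor X (genericPoint X))).ShortExact := hS.map_of_exact _
  have hex := (ShortComplex.ShortExact.moduleCat_exact_iff_function_exact _).1 hS'.exact
  have hinj : Function.Injective ((DerSch.stalkFunctor X (genericPoint X)).map f).hom :=
    (ModuleCat.mono_iff_injective _).1 hS'.mono_f
  have hsurj : Function.Surjective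
      ((DerSch.stalkFunctor X (genericPoint X)).map (cokernel.π f)).hom :=
    (ModuleCat.epi_iff_surjective _).1 hS'.epi_g
  obtain ⟨hf₁, hfin₁⟩ := Groth.Agent.Lib.Helper28.DCohRes.stalkFF_of_isFinLocFree
    (Groth.Agent.Lib.Helper29.QCoh.isFinLocFree_of_isFinLocFreeOfRank hE) (genericPoint X)
  obtain ⟨hf₂, hfin₂⟩ := Groth.Agent.Lib.Helper28.DCohRes.stalkFF_of_isFinLocFree
    (Groth.Agent.Lib.Helper29.QCoh.isFinLocFree_of_isFinLocFreeOfRank hF) (genericPoint X)
  letI : Field (X.presheaf.stalk (genericPoint X)) :=
    (inferInstance : Field X.functionField)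
  have hfin₃ : Module.Finite (X.presheaf.stalk (genericPoint X))
      ((cokernel f).presheaf.stalk (genericPoint X)) :=
    Module.Finite.of_surjective (R := X.presheaf.stalk (genericPoint X))
      (M := F.presheaf.stalk (genericPoint X))
      (P := (cokernel f).presheaf.stalk (genericPoint X))
      ((DerSch.stalkFunctor X (genericPoint X)).map (cokernel.π f)).hom hsurj
  have hf₃ : Module.Free (X.presheaf.stalk (genericPoint X))
      ((cokernel f).presheaf.stalk (genericPoint X)) := Module.Free.of_divisionRing _ _
  have hadd := finrank_add_of_exact (R := X.presheaf.stalk (genericPoint X))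
    (A := E.presheaf.stalk (genericPoint X)) (B := F.presheaf.stalk (genericPoint X))
    (C := (cokernel f).presheaf.stalk (genericPoint X))
    ((DerSch.stalkFunctor X (genericPoint X)).map f).hom
    ((DerSch.stalkFunctor X (genericPoint X)).map (cokernel.π f)).hom hinj hsurj hex
  rw [finrank_stalk_of_isFinLocFreeOfRank hE, finrank_stalk_of_isFinLocFreeOfRank hF] at hadd
  have h0 : Module.finrank (X.presheaf.stalk (genericPoint X))
      ((cokernel f).presheaf.stalk (genericPoint X)) = 0 := by omega
  exact (Module.finrank_eq_zero_iff_of_free (X.presheaf.stalk (genericPoint X))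
    ((cokernel f).presheaf.stalk (genericPoint X))).1 h0

/-- a monomorphism of vector bundles of the same rank and degree on an integral proper curve is an
isomorphism -/
theorem isIso_of_mono_of_deg_eq (k : Type u) [Field k] [X.Over (Spec (CommRingCat.of k))]
    [IsIntegral X] [IsProper (X ↘ Spec (CommRingCat.of k))] (hdim : topologicalKrullDim X ≤ 1)
    {E F : X.Modules} (f : E ⟶ F) [Mono f] (r : ℕ)
    (hE : FlatMod.IsFinLocFreeOfRank r E) (hF : FlatMod.IsFinLocFreeOfRank r F)
    (hd : Curv2.deg k X E r = Curv2.deg k X F r) : IsIso f :=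
  ((deg_le_of_mono_generic_iso k hdim E F (isCoh_of_isFinLocFreeOfRank hE)
    (isCoh_of_isFinLocFreeOfRank hF) r f (subsingleton_cokernel_generic f r hE hF)).2).1 hd

theorem deg_le_of_mono_same_rank (k : Type u) [Field k] [X.Over (Spec (CommRingCat.of k))]
    [IsIntegral X] [IsProper (X ↘ Spec (CommRingCat.of k))] (hdim : topologicalKrullDim X ≤ 1)
    {E F : X.Modules} (f : E ⟶ F) [Mono f] (r : ℕ)
    (hE : FlatMod.IsFinLocFreeOfRank r E) (hF : FlatMod.IsFinLocFreeOfRank r F) :
    Curv2.deg k X E r ≤ Curv2.deg k X F r :=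
  (deg_le_of_mono_generic_iso k hdim E F (isCoh_of_isFinLocFreeOfRank hE)
    (isCoh_of_isFinLocFreeOfRank hF) r f (subsingleton_cokernel_generic f r hE hF)).1

end Groth.Agent.Lib.Helper2.DegAdd
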