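import Groth.Agent.S16754

/-! # Smooth proper geometrically connected curves are integral -/

set_option autoImplicit false
universe u
open CategoryTheory CategoryTheory.Limits AlgebraicGeometry

namespace Groth.Agent.Lib.Helper2.DegAdd

theorem isIntegral_of_geometricallyConnected (k : Type u) [Field k] (X : Scheme.{u})
    [X.Over (Spec (CommRingCat.of k))] [IsProper (X ↘ Spec (CommRingCat.of k))]
    [Smooth (X ↘ Spec (CommRingCat.of k))]
    [GeometricallyConnected (X ↘ Spec (CommRingCat.of k))]
    (hdim : topologicalKrullDim X = 1) : IsIntegral X := by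
  have hgi : GeometricallyIntegral (X ↘ Spec (CommRingCat.of k)) :=
    ((Groth.Agent.S16754.result k X hdim).2).1 inferInstance
  have : Subsingleton (Spec (CommRingCat.of k)) :=
    (inferInstance : Subsingleton (PrimeSpectrum k))
  exact GeometricallyIntegral.isIntegral_of_subsingleton (X ↘ Spec (CommRingCat.of k))

end Groth.Agent.Lib.Helper2.DegAdd
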