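import Groth.Agent.Lib.Helper2.DegAdd.Sat

/-! # Saturation of a subbundle on a smooth curve -/

set_option autoImplicit false
universe u v
open CategoryTheory CategoryTheory.Limits AlgebraicGeometry

namespace Groth.Agent.Lib.Helper2.DegAdd

variable {X : Scheme.{u}}

section Curve
variable (k : Type u) [Field k] [X.Over (Spec (CommRingCat.of k))]
  [IsIntegral X] [IsProper (X ↘ Spec (CommRingCat.of k))]
  [Smooth (X ↘ Spec (CommRingCat.of k))]

/-- the saturation of a locally free submodule `G ⊆ E`: a submodule `Gs ⊇ G` of the same rank and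
at least the same degree with locally free quotient `E/Gs` -/
theorem exists_saturation (hdim : topologicalKrullDim X ≤ 1) {G E : X.Modules} (i : G ⟶ E)
    [Mono i] (r' r : ℕ) (hG : FlatMod.IsFinLocFreeOfRank r' G)
    (hE : FlatMod.IsFinLocFreeOfRank r E) :
    ∃ (Gs Q' : X.Modules) (is : Gs ⟶ E) (p : E ⟶ Q') (w : is ≫ p = 0) (c : ℕ),
      (ShortComplex.mk is p w).ShortExact ∧ FlatMod.IsFinLocFreeOfRank r' Gs ∧
      FlatMod.IsFinLocFreeOfRank c Q' ∧ r = r' + c ∧
      Curv2.deg k X G r' ≤ Curv2.deg k X Gs r' ∧ (∃ u : G ⟶ Gs, u ≫ is = i) := by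
  have hnoeth : IsLocallyNoetherian X :=
    LocallyOfFiniteType.isLocallyNoetherian (X ↘ Spec (CommRingCat.of k))
  have hGc := isCoh_of_isFinLocFreeOfRank hG
  have hEc := isCoh_of_isFinLocFreeOfRank hE
  have hQc : Coh.IsCoh (cokernel i) := Groth.Agent.Lib.Helper12.H12Dev.isCoh_cokernel i hGc hEc
  obtain ⟨T, Q', j, p₀, w₀, c, hS₀, hTc, hTgen, hQ', hgr, -, -, -⟩ :=
    exists_torsion_sequence k hdim (cokernel i) hQc
  have hp₀ : Epi p₀ := hS₀.epi_g
  have hpe : Epi (cokernel.π i ≫ p₀) := epi_comp _ _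
  have hSi : (ShortComplex.mk i (cokernel.π i) (cokernel.condition i)).ShortExact :=
    ShortComplex.ShortExact.mk (ShortComplex.exact_cokernel i)
  have hgr2 := grank_add _ hSi hGc hEc hQc
  have hgr2' : grank E = grank G + grank (cokernel i) := hgr2
  rw [grank_of_isFinLocFreeOfRank hE, grank_of_isFinLocFreeOfRank hG, hgr] at hgr2'
  have hS : (ShortComplex.mk (kernel.ι (cokernel.π i ≫ p₀)) (cokernel.π i ≫ p₀)
      (kernel.condition _)).ShortExact :=
    ShortComplex.ShortExact.mk (ShortComplex.exact_kernel _)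
  have hKc : Coh.IsCoh (kernel (cokernel.π i ≫ p₀)) :=
    Groth.Agent.Lib.Helper12.H12Dev.isCoh_kernel _ hEc (isCoh_of_isFinLocFreeOfRank hQ')
  obtain ⟨n, hn⟩ := exists_rank_of_mono k hdim (kernel.ι (cokernel.π i ≫ p₀)) hKc
    (Groth.Agent.Lib.Helper29.QCoh.isFinLocFree_of_isFinLocFreeOfRank hE)
  have x : X := Classical.arbitrary X
  have hrk := rank_add_of_shortExact _ hS n r c hn hE hQ' x
  have hnr : n = r' := by omega
  subst hnr
  have hw : i ≫ cokernel.π i ≫ p₀ = 0 := by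
    rw [← Category.assoc, cokernel.condition]
    exact zero_comp
  have hu : kernel.lift (cokernel.π i ≫ p₀) i hw ≫
      kernel.ι (cokernel.π i ≫ p₀) = i := kernel.lift_ι _ _ _
  have hmu : Mono (kernel.lift (cokernel.π i ≫ p₀) i hw) := by
    have : Mono (kernel.lift (cokernel.π i ≫ p₀) i hw ≫
      kernel.ι (cokernel.π i ≫ p₀)) := by rw [hu]; infer_instance
    exact mono_of_mono _ (kernel.ι (cokernel.π i ≫ p₀))
  have hdeg := deg_le_of_mono_same_rank k hdim (kernel.lift (cokernel.π i ≫ p₀) i hw) n hG hn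
  exact ⟨_, Q', kernel.ι (cokernel.π i ≫ p₀), cokernel.π i ≫ p₀, kernel.condition _, c, hS, hn,
    hQ', hgr2', hdeg, ⟨_, hu⟩⟩

end Curve

end Groth.Agent.Lib.Helper2.DegAdd
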