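import Groth.Agent.Lib.Helper2.DegAdd.HN1
import Groth.Agent.Lib.Helper2.DegAdd.Sat2
import Groth.Agent.Lib.Helper2.DegAdd.EndFin
import Groth.Agent.Lib.Helper29.QCohGen
import Groth.Agent.Lib.Lead.LinLES.Basic
import Groth.Agent.S0002

/-! # `h⁰ ≤ rank` for semistable bundles of degree zero on a curve with `h⁰(O) = 1` (helper2) -/

set_option autoImplicit false
universe u v
open CategoryTheory CategoryTheory.Limits AlgebraicGeometry Opposite

namespace Groth.Agent.Lib.Helper2.DegAdd

variable {X : Scheme.{u}}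

section Pt
variable (k : Type u) [Field k] [X.Over (Spec (CommRingCat.of k))]

/-- with a rational point on an integral proper `k`-scheme, all global functions are constants -/
theorem scalTop_surjective_of_section [IsIntegral X] [IsProper (X ↘ Spec (CommRingCat.of k))]
    (O : Spec (CommRingCat.of k) ⟶ X) (hO : O ≫ (X ↘ Spec (CommRingCat.of k)) = 𝟙 _)
    (a : Γ(X, ⊤)) : ∃ c : k, scalTop (X := X) k c = a := by
  have hfld : IsField Γ(X, ⊤) := isField_of_universallyClosed k (X ↘ Spec (CommRingCat.of k))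
  let g : k →+* Γ(X, ⊤) := (X ↘ Spec (CommRingCat.of k)).appTop.hom.comp
    (Scheme.ΓSpecIso (CommRingCat.of k)).inv.hom
  have hg : ∀ c, scalTop (X := X) k c = g c := fun c => rfl
  let ev : Γ(X, ⊤) →+* k := (Scheme.ΓSpecIso (CommRingCat.of k)).hom.hom.comp O.appTop.hom
  have hev : ∀ c : k, ev (g c) = c := by
    intro c
    change (Scheme.ΓSpecIso (CommRingCat.of k)).hom.hom (O.appTop.hom
      ((X ↘ Spec (CommRingCat.of k)).appTop.hom ((Scheme.ΓSpecIso (CommRingCat.of k)).inv.hom c))) = c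
    have h1 : (X ↘ Spec (CommRingCat.of k)).appTop ≫ O.appTop = 𝟙 _ := by
      rw [← Scheme.Hom.comp_appTop, hO]
      rfl
    have h2 := congrArg (fun f => f.hom ((Scheme.ΓSpecIso (CommRingCat.of k)).inv.hom c)) h1
    change O.appTop.hom ((X ↘ Spec (CommRingCat.of k)).appTop.hom _) = _ at h2
    rw [h2]
    exact congrArg (fun f => f.hom c) (Scheme.ΓSpecIso (CommRingCat.of k)).inv_hom_id
  refine ⟨ev a, ?_⟩
  rw [hg]
  by_contra hne
  have hb : a - g (ev a) ≠ 0 := by
    intro h
    exact hne (sub_eq_zero.mp h).symm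
  obtain ⟨b', hb'⟩ := hfld.mul_inv_cancel hb
  have := congrArg ev hb'
  rw [map_mul, map_sub, hev, sub_self, zero_mul, map_one] at this
  exact zero_ne_one this

/-- if all global functions are constants then `h⁰(O_X) ≤ 1` -/
theorem h0_unit_le_one (h : ∀ a : Γ(X, ⊤), ∃ c : k, scalTop (X := X) k c = a) :
    Module.finrank k (Coh.HH X (Groth.Agent.Lib.Helper29.QCoh.unitM X) 0) ≤ 1 := by
  let M := Groth.Agent.Lib.Helper29.QCoh.unitM X
  let E0 := Sheaf.H.equiv₀ (Coh.toAb M) (isTerminalTop : IsTerminal (⊤ : TopologicalSpace.Opens X))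
  let one : (Coh.toAb M).obj.obj (op ⊤) :=
    Groth.Agent.Lib.Helper29.QCoh.toUnit (1 : Γ(X, ⊤))
  apply finrank_le_one (E0.symm one)
  intro w
  obtain ⟨c, hc⟩ := h (E0 w)
  refine ⟨c, ?_⟩
  change Sheaf.H.map (Coh.smulAb M (Coh.toGlobal (X ↘ Spec (CommRingCat.of k)) c)) 0 _ = w
  rw [Sheaf.H.equiv₀_symm_naturality]
  apply E0.injective
  rw [AddEquiv.apply_symm_apply]
  refine Eq.trans (Coh.smulAb_app M
      (Coh.toGlobal (X ↘ Spec (CommRingCat.of k)) c) (op ⊤) one) ?_
  have hres : Coh.resTop X (op ⊤) (Coh.toGlobal (X ↘ Spec (CommRingCat.of k)) c) =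
      Coh.toGlobal (X ↘ Spec (CommRingCat.of k)) c := by
    have h1 : (homOfLE (le_top (a := (op (⊤ : X.Opens)).unop))).op = 𝟙 (op (⊤ : X.Opens)) :=
      Subsingleton.elim _ _
    change (X.ringCatSheaf.obj.map (homOfLE (le_top (a := (op (⊤ : X.Opens)).unop))).op).hom _ = _
    rw [h1, CategoryTheory.Functor.map_id]
    rfl
  rw [hres]
  refine Eq.trans ?_ hc
  change (scalTop (X := X) k c) * 1 = scalTop (X := X) k c
  exact mul_one _

/-- `h⁰` is subadditive on short exact sequences -/
theorem h0_le_add_of_shortExact (S : ShortComplex X.Modules) (hS : S.ShortExact)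
    [Module.Finite k (Coh.HH X S.X₁ 0)] [Module.Finite k (Coh.HH X S.X₂ 0)]
    [Module.Finite k (Coh.HH X S.X₃ 0)] :
    Module.finrank k (Coh.HH X S.X₂ 0) ≤
      Module.finrank k (Coh.HH X S.X₁ 0) + Module.finrank k (Coh.HH X S.X₃ 0) := by
  have hex := Groth.Agent.Lib.Lead.LinLES.exact₂ k S hS 0
  have hker : LinearMap.ker (Canon.HHlin k S.g 0) = LinearMap.range (Canon.HHlin k S.f 0) :=
    (LinearMap.exact_iff.mp hex)
  have h1 := LinearMap.finrank_range_add_finrank_ker (Canon.HHlin k S.g 0)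
  have h2 : Module.finrank k (LinearMap.range (Canon.HHlin k S.g 0)) ≤
      Module.finrank k (Coh.HH X S.X₃ 0) := Submodule.finrank_le _
  have h3 : Module.finrank k (LinearMap.range (Canon.HHlin k S.f 0)) ≤
      Module.finrank k (Coh.HH X S.X₁ 0) := LinearMap.finrank_range_le _
  rw [hker] at h1
  omega

/-- a nonzero `H⁰` gives a nonzero map from the structure sheaf -/
theorem exists_hom_unit_ne_zero (G : X.Modules) (h : ¬ Subsingleton (Coh.HH X G 0)) :
    ∃ σ : Groth.Agent.Lib.Helper29.QCoh.unitM X ⟶ G, σ ≠ 0 := by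
  let E0 := Sheaf.H.equiv₀ (Coh.toAb G) (isTerminalTop : IsTerminal (⊤ : TopologicalSpace.Opens X))
  have : ∃ x : Coh.HH X G 0, x ≠ 0 := by
    by_contra hcon
    push_neg at hcon
    exact h ⟨fun a b => (hcon a).trans (hcon b).symm⟩
  obtain ⟨x, hx⟩ := this
  have hs : E0 x ≠ 0 := fun h0 => hx (E0.injective (h0.trans (map_zero E0).symm))
  let s : Γ(G, ⊤) := E0 x
  refine ⟨Groth.Agent.Lib.Helper29.QCoh.homOfSection G s, ?_⟩
  intro h0
  have h1 := Groth.Agent.Lib.Helper29.QCoh.homOfSection_app_one G s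
  rw [h0] at h1
  apply hs
  refine Eq.trans h1.symm ?_
  rfl

end Pt

section Curve
variable (k : Type u) [Field k] [X.Over (Spec (CommRingCat.of k))]
  [IsIntegral X] [IsProper (X ↘ Spec (CommRingCat.of k))]
  [Smooth (X ↘ Spec (CommRingCat.of k))]

include k in
/-- a nonzero map from a line bundle to a vector bundle on a smooth integral curve is a
monomorphism -/
theorem mono_of_ne_zero_of_rank_one (hdim : topologicalKrullDim X ≤ 1) {N M : X.Modules} (s : ℕ)
    (hN : FlatMod.IsFinLocFreeOfRank 1 N) (hM : FlatMod.IsFinLocFreeOfRank s M)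
    (g : N ⟶ M) (hg : g ≠ 0) : Mono g := by
  obtain ⟨a, b, ha, hb, hrab, -⟩ := exists_ker_im_decomp k hdim 1 s hN hM g
  have hb0 : 0 < b := by
    by_contra hb0
    have hb' : b = 0 := by omega
    subst hb'
    have hz := isZero_of_rank_zero hb
    apply hg
    rw [← Abelian.image.fac g, hz.eq_of_src (Abelian.image.ι g) 0, comp_zero]
  have ha0 : a = 0 := by omega
  subst ha0
  exact Preadditive.mono_of_isZero_kernel g (isZero_of_rank_zero ha)

/-- a semistable bundle of degree `0` on a smooth proper integral curve with `h⁰(O) ≤ 1` has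
`h⁰ ≤ rank` -/
theorem h0_le_rank_of_semistable_deg_zero (hdim : topologicalKrullDim X ≤ 1)
    (h1 : Module.finrank k (Coh.HH X (Groth.Agent.Lib.Helper29.QCoh.unitM X) 0) ≤ 1) :
    ∀ (r : ℕ) (G : X.Modules), FlatMod.IsFinLocFreeOfRank r G → Curv2.deg k X G r = 0 →
      (∀ (H : X.Modules) (r' : ℕ) (i : H ⟶ G), Mono i → 0 < r' →
        FlatMod.IsFinLocFreeOfRank r' H → Curv2.deg k X H r' ≤ 0) →
      Module.finrank k (Coh.HH X G 0) ≤ r := by
  intro r
  induction r with
  | zero =>
    intro G hG _ _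
    have hz := isZero_of_rank_zero hG
    have := subsingleton_HH_of_isZero k hz 0 (X := X)
    rw [Module.finrank_zero_of_subsingleton]
  | succ r ih =>
    intro G hG hdeg hss
    by_cases hsub : Subsingleton (Coh.HH X G 0)
    · rw [Module.finrank_zero_of_subsingleton]
      omega
    obtain ⟨σ, hσ⟩ := exists_hom_unit_ne_zero G hsub
    have hU : FlatMod.IsFinLocFreeOfRank 1 (Groth.Agent.Lib.Helper29.QCoh.unitM X) :=
      (Groth.Agent.Lib.Helper29.QCoh.isInvertible_iff_isFinLocFreeOfRank_one _).mp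
        (Groth.Agent.Lib.Helper29.QCoh.isInvertible_unit X)
    have hUdeg : Curv2.deg k X (Groth.Agent.Lib.Helper29.QCoh.unitM X) 1 = 0 := by
      unfold Curv2.deg
      push_cast
      ring
    have hσm : Mono σ := mono_of_ne_zero_of_rank_one k hdim (r + 1) hU hG σ hσ
    obtain ⟨Gs, Q', is, p, w, c, hSE, hGs, hQ', hrc, hdle, u, hu⟩ :=
      exists_saturation k hdim σ 1 (r + 1) hU hG
    have hc : c = r := by omega
    subst hc
    have hism : Mono is := hSE.mono_f
    have hpe : Epi p := hSE.epi_g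
    have hGs0 : Curv2.deg k X Gs 1 = 0 := by
      have := hss Gs 1 is hism one_pos hGs
      rw [hUdeg] at hdle
      omega
    have hum : Mono u := by
      have : Mono (u ≫ is) := by rw [hu]; exact hσm
      exact mono_of_mono u is
    have huiso : IsIso u := isIso_of_mono_of_deg_eq k hdim u 1 hU hGs (by rw [hUdeg, hGs0])
    have hQ'deg : Curv2.deg k X Q' c = 0 := by
      have := Groth.Agent.S7643.result k X hdim _ hSE 1 (c + 1) c hGs hG hQ'
      change Curv2.deg k X G (c + 1) = Curv2.deg k X Gs 1 + Curv2.deg k X Q' c at this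
      rw [hdeg, hGs0] at this
      omega
    have hdesc_iso : IsIso (cokernel.desc is p w) := by
      have : Mono (cokernel.desc is p w) :=
        (ShortComplex.exact_iff_mono_cokernel_desc (ShortComplex.mk is p w)).mp hSE.exact
      have : Epi (cokernel.desc is p w) := by
        have : Epi (cokernel.π is ≫ cokernel.desc is p w) := by
          rw [cokernel.π_desc]; exact hpe
        exact epi_of_epi (cokernel.π is) _
      exact isIso_of_mono_of_epi _
    have hssQ' : ∀ (H : X.Modules) (r' : ℕ) (i : H ⟶ Q'), Mono i → 0 < r' →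
        FlatMod.IsFinLocFreeOfRank r' H → Curv2.deg k X H r' ≤ 0 := by
      intro H s j hj hs hH
      have : Mono (j ≫ inv (cokernel.desc is p w)) := mono_comp _ _
      obtain ⟨P, ι, hι, hP, hPdeg⟩ := exists_preimage_sub k hdim (c + 1) 1 s hG is hGs
        (j ≫ inv (cokernel.desc is p w)) hH
      have := hss P (1 + s) ι hι (by omega) hP
      rw [hPdeg, hGs0] at this
      omega
    have ihQ := ih Q' hQ' hQ'deg hssQ'
    have f1 : Module.Finite k (Coh.HH X Gs 0) :=
      Groth.Agent.S0002.result k X _ (isCoh_of_isFinLocFreeOfRank hGs) 0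
    have f2 : Module.Finite k (Coh.HH X G 0) :=
      Groth.Agent.S0002.result k X _ (isCoh_of_isFinLocFreeOfRank hG) 0
    have f3 : Module.Finite k (Coh.HH X Q' 0) :=
      Groth.Agent.S0002.result k X _ (isCoh_of_isFinLocFreeOfRank hQ') 0
    have f4 : Module.Finite k (Coh.HH X (Groth.Agent.Lib.Helper29.QCoh.unitM X) 0) :=
      Groth.Agent.S0002.result k X _ (isCoh_of_isFinLocFreeOfRank hU) 0
    have hadd := @h0_le_add_of_shortExact X k _ _ (ShortComplex.mk is p w) hSE f1 f2 f3
    change Module.finrank k (Coh.HH X G 0) ≤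
      Module.finrank k (Coh.HH X Gs 0) + Module.finrank k (Coh.HH X Q' 0) at hadd
    have hGs1 : Module.finrank k (Coh.HH X Gs 0) ≤
        Module.finrank k (Coh.HH X (Groth.Agent.Lib.Helper29.QCoh.unitM X) 0) :=
      h0_le_of_mono k (inv u)
    omega

end Curve

end Groth.Agent.Lib.Helper2.DegAdd
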