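import Groth.Agent.Lib.Helper2.DegAdd.KerIm

/-! # Existence of a maximal destabilising subsheaf (first step of Harder–Narasimhan) -/

set_option autoImplicit false
universe u v
open CategoryTheory CategoryTheory.Limits AlgebraicGeometry

namespace Groth.Agent.Lib.Helper2.DegAdd

theorem slope_arith (dG dE : ℤ) (q' q₁ r' r₁ R F : ℕ) (hF : 0 < F)
    (hq' : r' * q' = F) (hq₁ : r₁ * q₁ = F)
    (h : dG * (q' : ℤ) * ((R : ℤ) + 1) + (r' : ℤ) ≤ dE * (q₁ : ℤ) * ((R : ℤ) + 1) + (r₁ : ℤ))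
    (h1 : 1 ≤ r') (h2 : r' ≤ R) (h3 : 1 ≤ r₁) (h4 : r₁ ≤ R) :
    dG * (r₁ : ℤ) ≤ dE * (r' : ℤ) ∧ (dG * (r₁ : ℤ) = dE * (r' : ℤ) → r' ≤ r₁) := by
  have hF' : (0 : ℤ) < (F : ℤ) := by exact_mod_cast hF
  have hq'z : (r' : ℤ) * (q' : ℤ) = (F : ℤ) := by exact_mod_cast hq'
  have hq₁z : (r₁ : ℤ) * (q₁ : ℤ) = (F : ℤ) := by exact_mod_cast hq₁
  have h1' : (1 : ℤ) ≤ (r' : ℤ) := by exact_mod_cast h1
  have h2' : (r' : ℤ) ≤ (R : ℤ) := by exact_mod_cast h2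
  have h3' : (1 : ℤ) ≤ (r₁ : ℤ) := by exact_mod_cast h3
  have h4' : (r₁ : ℤ) ≤ (R : ℤ) := by exact_mod_cast h4
  have hAB : dG * (q' : ℤ) ≤ dE * (q₁ : ℤ) := by
    by_contra hlt
    have h5 : dE * (q₁ : ℤ) + 1 ≤ dG * (q' : ℤ) := not_le.mp hlt
    have hR : (0 : ℤ) ≤ (R : ℤ) + 1 := by positivity
    have h6 := mul_le_mul_of_nonneg_right h5 hR
    nlinarith
  have key : dG * (r₁ : ℤ) * (F : ℤ) ≤ dE * (r' : ℤ) * (F : ℤ) := by
    have hpos : (0 : ℤ) ≤ (r' : ℤ) * (r₁ : ℤ) := by positivity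
    have := mul_le_mul_of_nonneg_right hAB hpos
    calc dG * (r₁ : ℤ) * (F : ℤ) = dG * (q' : ℤ) * ((r' : ℤ) * (r₁ : ℤ)) := by
          rw [← hq'z]; ring
      _ ≤ dE * (q₁ : ℤ) * ((r' : ℤ) * (r₁ : ℤ)) := this
      _ = dE * (r' : ℤ) * (F : ℤ) := by rw [← hq₁z]; ring
  refine ⟨le_of_mul_le_mul_right key hF', fun heq => ?_⟩
  have hAB' : dG * (q' : ℤ) = dE * (q₁ : ℤ) := by
    have hpos : (0 : ℤ) < (r' : ℤ) * (r₁ : ℤ) := by positivity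
    apply mul_right_cancel₀ (ne_of_gt hpos)
    calc dG * (q' : ℤ) * ((r' : ℤ) * (r₁ : ℤ)) = dG * (r₁ : ℤ) * (F : ℤ) := by
          rw [← hq'z]; ring
      _ = dE * (r' : ℤ) * (F : ℤ) := by rw [heq]
      _ = dE * (q₁ : ℤ) * ((r' : ℤ) * (r₁ : ℤ)) := by rw [← hq₁z]; ring
  rw [hAB'] at h
  have : (r' : ℤ) ≤ (r₁ : ℤ) := by linarith
  exact_mod_cast this

variable {X : Scheme.{u}}

theorem exists_maxSlope_sub (k : Type u) [Field k] [X.Over (Spec (CommRingCat.of k))]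
    [IsIntegral X] [IsProper (X ↘ Spec (CommRingCat.of k))]
    (hdim : topologicalKrullDim X ≤ 1)
    (r : ℕ) (hr : 0 < r) (E : X.Modules) (hE : FlatMod.IsFinLocFreeOfRank r E) :
    ∃ (E₁ : X.Modules) (r₁ : ℕ) (i₁ : E₁ ⟶ E), Mono i₁ ∧ 0 < r₁ ∧
      FlatMod.IsFinLocFreeOfRank r₁ E₁ ∧
      (∀ (G : X.Modules) (r' : ℕ) (j : G ⟶ E), Mono j → 0 < r' →
        FlatMod.IsFinLocFreeOfRank r' G →
        Curv2.deg k X G r' * (r₁ : ℤ) ≤ Curv2.deg k X E₁ r₁ * (r' : ℤ)) ∧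
      (∀ (G : X.Modules) (r' : ℕ) (j : G ⟶ E), Mono j → 0 < r' →
        FlatMod.IsFinLocFreeOfRank r' G →
        Curv2.deg k X G r' * (r₁ : ℤ) = Curv2.deg k X E₁ r₁ * (r' : ℤ) → r' ≤ r₁) := by
  classical
  have x : X := Classical.arbitrary X
  let N : ℤ := (Module.finrank k (Coh.HH X E 0) : ℤ) +
    r * |Curv2.euler k X (Coh.structureModule X)|
  let P : ℤ → Prop := fun z => ∃ (G : X.Modules) (r' : ℕ) (j : G ⟶ E), Mono j ∧ 0 < r' ∧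
    FlatMod.IsFinLocFreeOfRank r' G ∧
    z = Curv2.deg k X G r' * ((r.factorial / r' : ℕ) : ℤ) * ((r : ℤ) + 1) + (r' : ℤ)
  have hbdd : ∃ b : ℤ, ∀ z : ℤ, P z → z ≤ b := by
    refine ⟨|N| * (r.factorial : ℤ) * ((r : ℤ) + 1) + (r : ℤ), ?_⟩
    rintro z ⟨G, r', j, hj, hr', hG, rfl⟩
    have hle : r' ≤ r := rank_le_of_mono j r' r hG hE x
    have hdeg : Curv2.deg k X G r' ≤ N := deg_le_of_mono k hdim r E hE G r' j hG
    have hdeg' : Curv2.deg k X G r' ≤ |N| := hdeg.trans (le_abs_self N)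
    have hq : ((r.factorial / r' : ℕ) : ℤ) ≤ (r.factorial : ℤ) := by
      exact_mod_cast Nat.div_le_self _ _
    have hq0 : (0 : ℤ) ≤ ((r.factorial / r' : ℕ) : ℤ) := Int.natCast_nonneg _
    have h1 : Curv2.deg k X G r' * ((r.factorial / r' : ℕ) : ℤ) ≤
        |N| * (r.factorial : ℤ) :=
      (mul_le_mul_of_nonneg_right hdeg' hq0).trans
        (mul_le_mul_of_nonneg_left hq (abs_nonneg N))
    have hR : (0 : ℤ) ≤ (r : ℤ) + 1 := by positivity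
    have h2 := mul_le_mul_of_nonneg_right h1 hR
    have h3 : (r' : ℤ) ≤ (r : ℤ) := by exact_mod_cast hle
    linarith
  have hinh : ∃ z : ℤ, P z := ⟨_, E, r, 𝟙 E, inferInstance, hr, hE, rfl⟩
  obtain ⟨ub, ⟨E₁, r₁, i₁, hm₁, hr₁, hE₁, hub⟩, hmax⟩ := Int.exists_greatest_of_bdd hbdd hinh
  have hle₁ : r₁ ≤ r := rank_le_of_mono i₁ r₁ r hE₁ hE x
  have hdvd₁ : r₁ * (r.factorial / r₁) = r.factorial :=
    Nat.mul_div_cancel' (Nat.dvd_factorial hr₁ hle₁)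
  have main : ∀ (G : X.Modules) (r' : ℕ) (j : G ⟶ E), Mono j → 0 < r' →
      FlatMod.IsFinLocFreeOfRank r' G →
      Curv2.deg k X G r' * (r₁ : ℤ) ≤ Curv2.deg k X E₁ r₁ * (r' : ℤ) ∧
      (Curv2.deg k X G r' * (r₁ : ℤ) = Curv2.deg k X E₁ r₁ * (r' : ℤ) → r' ≤ r₁) := by
    intro G r' j hj hr' hG
    have hle : r' ≤ r := rank_le_of_mono j r' r hG hE x
    have hdvd : r' * (r.factorial / r') = r.factorial :=
      Nat.mul_div_cancel' (Nat.dvd_factorial hr' hle)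
    have hz := hmax _ ⟨G, r', j, hj, hr', hG, rfl⟩
    rw [hub] at hz
    exact slope_arith _ _ _ _ r' r₁ r r.factorial (Nat.factorial_pos r) hdvd hdvd₁ hz hr' hle
      hr₁ hle₁
  exact ⟨E₁, r₁, i₁, hm₁, hr₁, hE₁, fun G r' j hj hr' hG => (main G r' j hj hr' hG).1,
    fun G r' j hj hr' hG => (main G r' j hj hr' hG).2⟩

end Groth.Agent.Lib.Helper2.DegAdd
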