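import Groth.Agent.Lib.Helper2.DegAdd.SSAbel
import Groth.Agent.Lib.Helper2.DegAdd.MaxSlope

/-! # The maximal destabilising subbundle: existence and uniqueness -/

set_option autoImplicit false
universe u v
open CategoryTheory CategoryTheory.Limits AlgebraicGeometry

namespace Groth.Agent.Lib.Helper2.DegAdd

variable {X : Scheme.{u}}

section Curve
variable (k : Type u) [Field k] [X.Over (Spec (CommRingCat.of k))]
  [IsIntegral X] [IsProper (X ↘ Spec (CommRingCat.of k))]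
  [Smooth (X ↘ Spec (CommRingCat.of k))]

/-- data of the preimage in `E` of a locally free submodule of `E/E₁` -/
theorem exists_preimage_sub (hdim : topologicalKrullDim X ≤ 1) {E E₁ Q : X.Modules} (r r₁ s : ℕ)
    (hE : FlatMod.IsFinLocFreeOfRank r E) (i₁ : E₁ ⟶ E) [Mono i₁]
    (hE₁ : FlatMod.IsFinLocFreeOfRank r₁ E₁) (j : Q ⟶ cokernel i₁) [Mono j]
    (hQ : FlatMod.IsFinLocFreeOfRank s Q) :
    ∃ (P : X.Modules) (ι : P ⟶ E), Mono ι ∧ FlatMod.IsFinLocFreeOfRank (r₁ + s) P ∧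
      Curv2.deg k X P (r₁ + s) = Curv2.deg k X E₁ r₁ + Curv2.deg k X Q s := by
  have x : X := Classical.arbitrary X
  have hS₁ : (ShortComplex.mk i₁ (cokernel.π i₁) (cokernel.condition i₁)).ShortExact :=
    ShortComplex.ShortExact.mk (ShortComplex.exact_cokernel i₁)
  obtain ⟨α, hβ, hα, hSE⟩ := exists_shortExact_pullback _ hS₁ j
  have hPc : Coh.IsCoh (pullback (cokernel.π i₁) j) :=
    isCoh_of_shortExact _ hSE (isCoh_of_isFinLocFreeOfRank hE₁) (isCoh_of_isFinLocFreeOfRank hQ)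
  have hmf : Mono (pullback.fst (cokernel.π i₁) j) := inferInstance
  obtain ⟨m, hm⟩ := exists_rank_of_mono k hdim (pullback.fst (cokernel.π i₁) j) hPc
    (Groth.Agent.Lib.Helper29.QCoh.isFinLocFree_of_isFinLocFreeOfRank hE)
  have hrk := rank_add_of_shortExact _ hSE r₁ m s hE₁ hm hQ x
  subst hrk
  have hdg := Groth.Agent.S7643.result k X hdim _ hSE r₁ (r₁ + s) s hE₁ hm hQ
  exact ⟨_, pullback.fst (cokernel.π i₁) j, hmf, hm, hdg⟩

/-- subbundles of the quotient by a maximal destabilising subbundle of maximal rank have smaller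
slope -/
theorem quot_slope_lt (hdim : topologicalKrullDim X ≤ 1) {E E₁ : X.Modules} (r r₁ : ℕ)
    (hE : FlatMod.IsFinLocFreeOfRank r E) (i₁ : E₁ ⟶ E) [Mono i₁] (hr₁ : 0 < r₁)
    (hE₁ : FlatMod.IsFinLocFreeOfRank r₁ E₁)
    (h1 : ∀ (G : X.Modules) (r' : ℕ) (j : G ⟶ E), Mono j → 0 < r' →
      FlatMod.IsFinLocFreeOfRank r' G →
      Curv2.deg k X G r' * (r₁ : ℤ) ≤ Curv2.deg k X E₁ r₁ * (r' : ℤ))
    (h2 : ∀ (G : X.Modules) (r' : ℕ) (j : G ⟶ E), Mono j → 0 < r' →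
      FlatMod.IsFinLocFreeOfRank r' G →
      Curv2.deg k X G r' * (r₁ : ℤ) = Curv2.deg k X E₁ r₁ * (r' : ℤ) → r' ≤ r₁)
    (Q : X.Modules) (s : ℕ) (j : Q ⟶ cokernel i₁) (hj : Mono j) (hs : 0 < s)
    (hQ : FlatMod.IsFinLocFreeOfRank s Q) :
    Curv2.deg k X Q s * (r₁ : ℤ) < Curv2.deg k X E₁ r₁ * (s : ℤ) := by
  obtain ⟨P, ι, hι, hP, hdP⟩ := exists_preimage_sub k hdim r r₁ s hE i₁ hE₁ j hQ
  have hle := h1 P (r₁ + s) ι hι (by omega) hP
  have hne : Curv2.deg k X P (r₁ + s) * (r₁ : ℤ) ≠ Curv2.deg k X E₁ r₁ * ((r₁ + s : ℕ) : ℤ) := by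
    intro heq
    have := h2 P (r₁ + s) ι hι (by omega) hP heq
    omega
  have hlt := lt_of_le_of_ne hle hne
  rw [hdP] at hlt
  push_cast at hlt
  linarith only [hlt]

/-- the quotient by a subbundle of maximal slope is locally free -/
theorem cokernel_locFree_of_maxSlope (hdim : topologicalKrullDim X ≤ 1) {E E₁ : X.Modules}
    (r r₁ : ℕ) (hE : FlatMod.IsFinLocFreeOfRank r E) (i₁ : E₁ ⟶ E) [Mono i₁] (hr₁ : 0 < r₁)
    (hE₁ : FlatMod.IsFinLocFreeOfRank r₁ E₁)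
    (h1 : ∀ (G : X.Modules) (r' : ℕ) (j : G ⟶ E), Mono j → 0 < r' →
      FlatMod.IsFinLocFreeOfRank r' G →
      Curv2.deg k X G r' * (r₁ : ℤ) ≤ Curv2.deg k X E₁ r₁ * (r' : ℤ)) :
    ∃ c : ℕ, FlatMod.IsFinLocFreeOfRank c (cokernel i₁) := by
  have hnoeth : IsLocallyNoetherian X :=
    LocallyOfFiniteType.isLocallyNoetherian (X ↘ Spec (CommRingCat.of k))
  have hEc := isCoh_of_isFinLocFreeOfRank hE
  have hE₁c := isCoh_of_isFinLocFreeOfRank hE₁
  have hCc : Coh.IsCoh (cokernel i₁) :=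
    Groth.Agent.Lib.Helper12.H12Dev.isCoh_cokernel i₁ hE₁c hEc
  obtain ⟨T, C', jT, pC, w₀, c', hS₀, hTc, hTgen, hC', hgrC, hz, heul, hsub⟩ :=
    exists_torsion_sequence k hdim (cokernel i₁) hCc
  have hjT : Mono jT := hS₀.mono_f
  have hS₁ : (ShortComplex.mk i₁ (cokernel.π i₁) (cokernel.condition i₁)).ShortExact :=
    ShortComplex.ShortExact.mk (ShortComplex.exact_cokernel i₁)
  obtain ⟨α, hβ, hα, hSE⟩ := exists_shortExact_pullback _ hS₁ jT
  have hPc : Coh.IsCoh (pullback (cokernel.π i₁) jT) := isCoh_of_shortExact _ hSE hE₁c hTc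
  have hmf : Mono (pullback.fst (cokernel.π i₁) jT) := inferInstance
  obtain ⟨m, hm⟩ := exists_rank_of_mono k hdim (pullback.fst (cokernel.π i₁) jT) hPc
    (Groth.Agent.Lib.Helper29.QCoh.isFinLocFree_of_isFinLocFreeOfRank hE)
  have hgr := grank_add _ hSE hE₁c hPc hTc
  have hgr' : grank (pullback (cokernel.π i₁) jT) = grank E₁ + grank T := hgr
  rw [grank_of_isFinLocFreeOfRank hm, grank_of_isFinLocFreeOfRank hE₁, grank_eq_zero hTgen,
    add_zero] at hgr'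
  subst hgr'
  have heulP := Groth.Agent.S1524.result k X _ hSE hE₁c hPc hTc
  have heulP' : Curv2.euler k X (pullback (cokernel.π i₁) jT) =
      Curv2.euler k X E₁ + Curv2.euler k X T := heulP
  have heulC := Groth.Agent.S1524.result k X _ hS₀ hTc hCc (isCoh_of_isFinLocFreeOfRank hC')
  have heulC' : Curv2.euler k X (cokernel i₁) = Curv2.euler k X T + Curv2.euler k X C' := heulC
  have heT : Curv2.euler k X T = (Module.finrank k (Coh.HH X T 0) : ℤ) := by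
    linarith only [heul, heulC']
  have hle := h1 _ m (pullback.fst (cokernel.π i₁) jT) hmf hr₁ hm
  have hm' : (0 : ℤ) < (m : ℤ) := by exact_mod_cast hr₁
  have hnn : (0 : ℤ) ≤ (Module.finrank k (Coh.HH X T 0) : ℤ) := Int.natCast_nonneg _
  have hT0 : Module.finrank k (Coh.HH X T 0) = 0 := by
    have hle' : (Module.finrank k (Coh.HH X T 0) : ℤ) ≤ 0 := by
      unfold Curv2.deg at hle
      rw [heulP', heT] at hle
      nlinarith only [hle, hm', hnn]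
    exact_mod_cast le_antisymm hle' hnn
  have hfinT : Module.Finite k (Coh.HH X T 0) := Groth.Agent.S0002.result k X _ hTc 0
  exact ⟨c', hz (hsub (Module.finrank_zero_iff.1 hT0))⟩

/-- a second subbundle of maximal slope is contained in a maximal destabilising subbundle -/
theorem factor_of_maxSlope (hdim : topologicalKrullDim X ≤ 1) {E E₁ E₁' : X.Modules}
    (r r₁ r₁' : ℕ) (hE : FlatMod.IsFinLocFreeOfRank r E) (i₁ : E₁ ⟶ E) (i₁' : E₁' ⟶ E)
    [Mono i₁] (hr₁ : 0 < r₁) (hE₁ : FlatMod.IsFinLocFreeOfRank r₁ E₁)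
    (h1 : ∀ (G : X.Modules) (r' : ℕ) (j : G ⟶ E), Mono j → 0 < r' →
      FlatMod.IsFinLocFreeOfRank r' G →
      Curv2.deg k X G r' * (r₁ : ℤ) ≤ Curv2.deg k X E₁ r₁ * (r' : ℤ))
    (h2 : ∀ (Q : X.Modules) (s : ℕ) (j : Q ⟶ cokernel i₁), Mono j → 0 < s →
      FlatMod.IsFinLocFreeOfRank s Q →
      Curv2.deg k X Q s * (r₁ : ℤ) < Curv2.deg k X E₁ r₁ * (s : ℤ))
    [Mono i₁'] (hr₁' : 0 < r₁') (hE₁' : FlatMod.IsFinLocFreeOfRank r₁' E₁')
    (h1' : ∀ (G : X.Modules) (r' : ℕ) (j : G ⟶ E), Mono j → 0 < r' →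
      FlatMod.IsFinLocFreeOfRank r' G →
      Curv2.deg k X G r' * (r₁' : ℤ) ≤ Curv2.deg k X E₁' r₁' * (r' : ℤ)) :
    ∃ φ : E₁' ⟶ E₁, φ ≫ i₁ = i₁' := by
  have hS₁ : (ShortComplex.mk i₁ (cokernel.π i₁) (cokernel.condition i₁)).ShortExact :=
    ShortComplex.ShortExact.mk (ShortComplex.exact_cokernel i₁)
  have hμ : Curv2.deg k X E₁' r₁' * (r₁ : ℤ) = Curv2.deg k X E₁ r₁ * (r₁' : ℤ) :=
    le_antisymm (h1 E₁' r₁' i₁' inferInstance hr₁' hE₁')
      (h1' E₁ r₁ i₁ inferInstance hr₁ hE₁)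
  obtain ⟨c, hC⟩ := cokernel_locFree_of_maxSlope k hdim r r₁ hE i₁ hr₁ hE₁ h1
  obtain ⟨a', b', ha', hb', hrab, hd⟩ :=
    exists_ker_im_decomp k hdim r₁' c hE₁' hC (i₁' ≫ cokernel.π i₁)
  have hrab' : (r₁' : ℤ) = (a' : ℤ) + (b' : ℤ) := by exact_mod_cast hrab
  have hb0 : b' = 0 := by
    by_contra hb0
    have hb1 : 0 < b' := Nat.pos_of_ne_zero hb0
    have hJ := h2 _ b' (Abelian.image.ι (i₁' ≫ cokernel.π i₁)) inferInstance hb1 hb'
    have hK : Curv2.deg k X (kernel (i₁' ≫ cokernel.π i₁)) a' * (r₁ : ℤ) ≤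
        Curv2.deg k X E₁ r₁ * (a' : ℤ) := by
      rcases Nat.eq_zero_or_pos a' with ha0 | ha0
      · subst ha0
        rw [deg_eq_zero_of_isZero k (isZero_of_rank_zero ha')]
        simp
      · have hm : Mono (kernel.ι (i₁' ≫ cokernel.π i₁) ≫ i₁') := mono_comp _ _
        exact h1 _ a' (kernel.ι (i₁' ≫ cokernel.π i₁) ≫ i₁') hm ha0 ha'
    rw [hd, hrab'] at hμ
    linarith only [hμ, hJ, hK]
  subst hb0
  have hz := isZero_of_rank_zero hb'
  have hg : i₁' ≫ cokernel.π i₁ = 0 := by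
    rw [← Abelian.image.fac (i₁' ≫ cokernel.π i₁),
      hz.eq_of_src (Abelian.image.ι (i₁' ≫ cokernel.π i₁)) 0, comp_zero]
  exact ⟨hS₁.exact.lift i₁' hg, hS₁.exact.lift_f i₁' hg⟩

end Curve

end Groth.Agent.Lib.Helper2.DegAdd
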