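import Groth.Agent.Lib.Helper2.DegAdd.Basic
import Groth.Agent.Lib.Helper29.ZeroDim
import Groth.Agent.Lib.Helper8.DimOne
import Groth.Agent.Lib.Helper12.Dev2
import Groth.Agent.S1524
import Groth.Agent.S0002

/-! # Degree comparison for generically isomorphic monomorphisms on integral proper curves -/

set_option autoImplicit false
universe u
open CategoryTheory CategoryTheory.Limits AlgebraicGeometry

namespace Groth.Agent.Lib.Helper2.DegAdd

variable {X : Scheme.{u}}

/-- on an integral scheme of dimension `≤ 1`, a finite type module with zero generic stalk has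
hereditarily closed support -/
theorem hered_of_generic_zero [IsIntegral X] [IsLocallyNoetherian X]
    (hdim : topologicalKrullDim X ≤ 1) (T : X.Modules) [T.IsFiniteType]
    (hgen : Subsingleton (T.presheaf.stalk (genericPoint X))) :
    ∀ S : Set X, S ⊆ CohB1.support T → IsClosed S := by
  apply Groth.Agent.Lib.Helper29.QCoh.support_hereditarily_closed T
  intro x hx
  apply Groth.Agent.Lib.Helper8.DimOne.isClosed_singleton_of_not_mem_maxPoints hdim
  intro hmax
  have hsp : genericPoint X ⤳ x := genericPoint_specializes x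
  have heq : genericPoint X = x := hmax _ hsp
  apply hx
  rw [← heq]
  exact hgen

theorem euler_eq_h0 (k : Type u) [Field k] [X.Over (Spec (CommRingCat.of k))] (T : X.Modules)
    (h : ∀ n : ℕ, Subsingleton (Coh.HH X T (n + 1))) :
    Curv2.euler k X T = (Module.finrank k (Coh.HH X T 0) : ℤ) := by
  unfold Curv2.euler
  rw [finsum_eq_single _ 0]
  · simp
  · intro i hi
    obtain ⟨j, rfl⟩ := Nat.exists_eq_succ_of_ne_zero hi
    have := h j
    rw [Module.finrank_zero_of_subsingleton]
    simp

theorem isZero_of_subsingleton_h0 (T : X.Modules)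
    (hT : ∀ S : Set X, S ⊆ CohB1.support T → IsClosed S)
    (h0 : Subsingleton (Coh.HH X T 0)) : IsZero T := by
  have hΓ : Subsingleton Γ(T, ⊤) :=
    (Sheaf.H.equiv₀ (Coh.toAb T) CategoryTheory.Limits.isTerminalTop).symm.toEquiv.subsingleton
  rw [IsZero.iff_id_eq_zero]
  apply Scheme.Modules.hom_ext
  intro V
  ext m
  obtain ⟨σ, hσ⟩ := Groth.Agent.Lib.Helper29.QCoh.exists_extension_of_support_hereditarily_closed
    T hT (le_top : V ≤ ⊤) m
  have hσ0 : σ = 0 := hΓ.elim _ _
  have hm : m = 0 := by
    rw [← hσ, hσ0, map_zero]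
  rw [hm]
  simp

theorem deg_le_of_mono_generic_iso (k : Type u) [Field k] [X.Over (Spec (CommRingCat.of k))]
    [IsIntegral X] [IsProper (X ↘ Spec (CommRingCat.of k))] (hdim : topologicalKrullDim X ≤ 1)
    (E F : X.Modules) (hEc : Coh.IsCoh E) (hFc : Coh.IsCoh F) (n : ℕ) (f : E ⟶ F) [Mono f]
    (hgen : Subsingleton ((cokernel f).presheaf.stalk (genericPoint X))) :
    Curv2.deg k X E n ≤ Curv2.deg k X F n ∧
      (Curv2.deg k X E n = Curv2.deg k X F n ↔ IsIso f) := by
  haveI : IsLocallyNoetherian X :=
    LocallyOfFiniteType.isLocallyNoetherian (X ↘ Spec (CommRingCat.of k))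
  have hTc : Coh.IsCoh (cokernel f) := Groth.Agent.Lib.Helper12.H12Dev.isCoh_cokernel f hEc hFc
  haveI := hTc.2
  have hhered := hered_of_generic_zero hdim (cokernel f) hgen
  have hvan : ∀ m : ℕ, Subsingleton (Coh.HH X (cokernel f) (m + 1)) := fun m =>
    Groth.Agent.Lib.Helper29.QCoh.subsingleton_HH_succ_of_support_hereditarily_closed _ hhered m
  have heulT := euler_eq_h0 k (cokernel f) hvan
  have hS : (ShortComplex.mk f (cokernel.π f) (cokernel.condition f)).ShortExact :=
    ShortComplex.ShortExact.mk (ShortComplex.exact_cokernel f)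
  have heul := Groth.Agent.S1524.result k X _ hS hEc hFc hTc
  have heul' : Curv2.euler k X F = Curv2.euler k X E + Curv2.euler k X (cokernel f) := heul
  have hfin : Module.Finite k (Coh.HH X (cokernel f) 0) :=
    Groth.Agent.S0002.result k X _ hTc 0
  have hdiff : Curv2.deg k X F n =
      Curv2.deg k X E n + (Module.finrank k (Coh.HH X (cokernel f) 0) : ℤ) := by
    unfold Curv2.deg
    rw [heul', heulT]
    ring
  refine ⟨by rw [hdiff]; exact le_add_of_nonneg_right (Int.natCast_nonneg _), ?_⟩
  constructor
  · intro heq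
    have h0 : Module.finrank k (Coh.HH X (cokernel f) 0) = 0 := by
      rw [hdiff] at heq
      have : (Module.finrank k (Coh.HH X (cokernel f) 0) : ℤ) = 0 := by linarith
      exact_mod_cast this
    have hsub : Subsingleton (Coh.HH X (cokernel f) 0) := Module.finrank_zero_iff.1 h0
    have hz := isZero_of_subsingleton_h0 _ hhered hsub
    have hepi : Epi f := Preadditive.epi_of_isZero_cokernel f hz
    exact isIso_of_mono_of_epi f
  · intro hiso
    have hz : IsZero (cokernel f) := isZero_cokernel_of_epi f
    have := subsingleton_HH_of_isZero k hz 0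
    rw [hdiff, Module.finrank_zero_of_subsingleton]
    simp

end Groth.Agent.Lib.Helper2.DegAdd
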