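import Groth.Agent.Lib.Helper2.DegAdd.SubLF
import Groth.Agent.Lib.Helper2.DegAdd.Torsion
import Groth.Agent.S7643

/-! # Kernel–image decomposition of maps of vector bundles on a smooth curve -/

set_option autoImplicit false
universe u v
open CategoryTheory CategoryTheory.Limits AlgebraicGeometry

namespace Groth.Agent.Lib.Helper2.DegAdd

section Abstract
variable {C : Type u} [Category.{v} C] [Abelian C]

theorem kernel_ι_factorThruImage {A B : C} (f : A ⟶ B) :
    kernel.ι f ≫ Abelian.factorThruImage f = 0 := by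
  rw [← cancel_mono (Abelian.image.ι f)]
  simp

/-- `0 → ker f → A → im f → 0` -/
theorem shortExact_kernel_factorThruImage {A B : C} (f : A ⟶ B) :
    (ShortComplex.mk (kernel.ι f) (Abelian.factorThruImage f)
      (kernel_ι_factorThruImage f)).ShortExact := by
  have hex : (ShortComplex.mk (kernel.ι f) (Abelian.factorThruImage f)
      (kernel_ι_factorThruImage f)).Exact :=
    ShortComplex.exact_of_f_is_kernel _
      (isKernelOfComp (Abelian.image.ι f) f (kernelIsKernel f)
        (kernel_ι_factorThruImage f) (Abelian.image.fac f))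
  exact ShortComplex.ShortExact.mk hex

end Abstract

variable {X : Scheme.{u}}

/-- a finite locally free module of rank zero is zero -/
theorem isZero_of_rank_zero {M : X.Modules} (h : FlatMod.IsFinLocFreeOfRank 0 M) : IsZero M := by
  rw [Groth.Agent.Lib.Helper29.QCoh.isZero_iff_stalk_subsingleton]
  intro x
  obtain ⟨hf, hfin⟩ := Groth.Agent.Lib.Helper28.DCohRes.stalkFF_of_isFinLocFree
    (Groth.Agent.Lib.Helper29.QCoh.isFinLocFree_of_isFinLocFreeOfRank h) x
  have h0 := finrank_stalk_of_isFinLocFreeOfRank h x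
  exact (Module.finrank_eq_zero_iff_of_free (X.presheaf.stalk x) (M.presheaf.stalk x)).1 h0

/-- the rank of a zero module is zero -/
theorem rank_eq_zero_of_isZero [Nonempty X] {M : X.Modules} {n : ℕ}
    (h : FlatMod.IsFinLocFreeOfRank n M) (hz : IsZero M) : n = 0 := by
  have x : X := Classical.arbitrary X
  have h0 := finrank_stalk_of_isFinLocFreeOfRank h x
  have hs := (Groth.Agent.Lib.Helper29.QCoh.isZero_iff_stalk_subsingleton M).1 hz x
  rw [Module.finrank_zero_of_subsingleton] at h0
  exact h0.symm

theorem euler_eq_zero_of_isZero (k : Type u) [Field k] [X.Over (Spec (CommRingCat.of k))]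
    {M : X.Modules} (hz : IsZero M) : Curv2.euler k X M = 0 := by
  unfold Curv2.euler
  have : ∀ i : ℕ, (-1 : ℤ) ^ i * (Module.finrank k (Coh.HH X M i) : ℤ) = 0 := by
    intro i
    have hsub := subsingleton_HH_of_isZero k hz i
    rw [Module.finrank_zero_of_subsingleton]
    simp
  simp only [this]
  exact finsum_zero

theorem deg_eq_zero_of_isZero (k : Type u) [Field k] [X.Over (Spec (CommRingCat.of k))]
    {M : X.Modules} (hz : IsZero M) : Curv2.deg k X M 0 = 0 := by
  unfold Curv2.deg
  rw [euler_eq_zero_of_isZero k hz]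
  simp

section Curve
variable (k : Type u) [Field k] [X.Over (Spec (CommRingCat.of k))]
  [IsIntegral X] [IsProper (X ↘ Spec (CommRingCat.of k))]
  [Smooth (X ↘ Spec (CommRingCat.of k))]

/-- kernel–image decomposition of a morphism of vector bundles on a smooth proper integral curve -/
theorem exists_ker_im_decomp (hdim : topologicalKrullDim X ≤ 1) {E F : X.Modules} (r s : ℕ)
    (hE : FlatMod.IsFinLocFreeOfRank r E) (hF : FlatMod.IsFinLocFreeOfRank s F) (f : E ⟶ F) :
    ∃ a b : ℕ, FlatMod.IsFinLocFreeOfRank a (kernel f) ∧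
      FlatMod.IsFinLocFreeOfRank b (Abelian.image f) ∧ r = a + b ∧
      Curv2.deg k X E r = Curv2.deg k X (kernel f) a + Curv2.deg k X (Abelian.image f) b := by
  have : IsLocallyNoetherian X :=
    LocallyOfFiniteType.isLocallyNoetherian (X ↘ Spec (CommRingCat.of k))
  have hEc := isCoh_of_isFinLocFreeOfRank hE
  have hFc := isCoh_of_isFinLocFreeOfRank hF
  have hKc := Groth.Agent.Lib.Helper12.H12Dev.isCoh_kernel f hEc hFc
  have hIc := Groth.Agent.Lib.Helper12.H12Dev.isCoh_image f hEc hFc
  obtain ⟨a, ha⟩ := exists_rank_of_mono k hdim (kernel.ι f) hKc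
    (Groth.Agent.Lib.Helper29.QCoh.isFinLocFree_of_isFinLocFreeOfRank hE)
  obtain ⟨b, hb⟩ := exists_rank_of_mono k hdim (Abelian.image.ι f) hIc
    (Groth.Agent.Lib.Helper29.QCoh.isFinLocFree_of_isFinLocFreeOfRank hF)
  have hS := shortExact_kernel_factorThruImage f
  have x : X := Classical.arbitrary X
  have hr := rank_add_of_shortExact _ hS a r b ha hE hb x
  have hd := Groth.Agent.S7643.result k X hdim _ hS a r b ha hE hb
  exact ⟨a, b, ha, hb, hr, hd⟩

end Curve

end Groth.Agent.Lib.Helper2.DegAdd
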