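import Groth.Agent.Lib.Helper2.DegAdd.Sat2

/-! # (Semi)stability through quotients versus through subsheaves -/

set_option autoImplicit false
universe u v
open CategoryTheory CategoryTheory.Limits AlgebraicGeometry

namespace Groth.Agent.Lib.Helper2.DegAdd

variable {X : Scheme.{u}}

section Curve
variable (k : Type u) [Field k] [X.Over (Spec (CommRingCat.of k))]
  [IsIntegral X] [IsProper (X ↘ Spec (CommRingCat.of k))]
  [Smooth (X ↘ Spec (CommRingCat.of k))]

/-- kernel of an epimorphism of vector bundles -/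
theorem exists_kernel_decomp (hdim : topologicalKrullDim X ≤ 1) {E F : X.Modules} (r s : ℕ)
    (hE : FlatMod.IsFinLocFreeOfRank r E) (hF : FlatMod.IsFinLocFreeOfRank s F) (p : E ⟶ F)
    [Epi p] :
    ∃ a : ℕ, FlatMod.IsFinLocFreeOfRank a (kernel p) ∧ r = a + s ∧
      Curv2.deg k X E r = Curv2.deg k X (kernel p) a + Curv2.deg k X F s := by
  have hnoeth : IsLocallyNoetherian X :=
    LocallyOfFiniteType.isLocallyNoetherian (X ↘ Spec (CommRingCat.of k))
  have hEc := isCoh_of_isFinLocFreeOfRank hE
  have hFc := isCoh_of_isFinLocFreeOfRank hF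
  have hKc := Groth.Agent.Lib.Helper12.H12Dev.isCoh_kernel p hEc hFc
  obtain ⟨a, ha⟩ := exists_rank_of_mono k hdim (kernel.ι p) hKc
    (Groth.Agent.Lib.Helper29.QCoh.isFinLocFree_of_isFinLocFreeOfRank hE)
  have hS : (ShortComplex.mk (kernel.ι p) p (kernel.condition p)).ShortExact :=
    ShortComplex.ShortExact.mk (ShortComplex.exact_kernel p)
  have x : X := Classical.arbitrary X
  exact ⟨a, ha, rank_add_of_shortExact _ hS a r s ha hE hF x,
    Groth.Agent.S7643.result k X hdim _ hS a r s ha hE hF⟩

theorem semistable_quotient_iff_sub (hdim : topologicalKrullDim X ≤ 1)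
    (r : ℕ) (hr : 0 < r) (E : X.Modules) (hE : FlatMod.IsFinLocFreeOfRank r E) :
    ((∀ (F : X.Modules) (s : ℕ) (p : E ⟶ F), Epi p → 0 < s → FlatMod.IsFinLocFreeOfRank s F →
      Curv2.deg k X E r * (s : ℤ) ≤ Curv2.deg k X F s * (r : ℤ)) ↔
      (∀ (G : X.Modules) (r' : ℕ) (i : G ⟶ E), Mono i → 0 < r' →
        FlatMod.IsFinLocFreeOfRank r' G →
        Curv2.deg k X G r' * (r : ℤ) ≤ Curv2.deg k X E r * (r' : ℤ))) ∧
    ((∀ (F : X.Modules) (s : ℕ) (p : E ⟶ F), Epi p → 0 < s → FlatMod.IsFinLocFreeOfRank s F →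
      (¬ IsIso p) → Curv2.deg k X E r * (s : ℤ) < Curv2.deg k X F s * (r : ℤ)) ↔
      (∀ (G : X.Modules) (r' : ℕ) (i : G ⟶ E), Mono i → 0 < r' →
        FlatMod.IsFinLocFreeOfRank r' G → (¬ IsIso i) →
        Curv2.deg k X G r' * (r : ℤ) < Curv2.deg k X E r * (r' : ℤ))) := by
  have x : X := Classical.arbitrary X
  have hr' : (0 : ℤ) < (r : ℤ) := by exact_mod_cast hr
  refine ⟨⟨fun hq G r' i hi hr'0 hG => ?_, fun hs F s p hp hs0 hF => ?_⟩,
    ⟨fun hq G r' i hi hr'0 hG hni => ?_, fun hs F s p hp hs0 hF hni => ?_⟩⟩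
  · obtain ⟨Gs, Q', is, p, w, c, hS, hGs, hQ', hrc, hdeg, -⟩ :=
      exists_saturation k hdim i r' r hG hE
    have hd := Groth.Agent.S7643.result k X hdim _ hS r' r c hGs hE hQ'
    have hd' : Curv2.deg k X E r = Curv2.deg k X Gs r' + Curv2.deg k X Q' c := hd
    have hrc' : (r : ℤ) = (r' : ℤ) + (c : ℤ) := by exact_mod_cast hrc
    have h1 := mul_le_mul_of_nonneg_right hdeg hr'.le
    rcases Nat.eq_zero_or_pos c with hc0 | hc0
    · subst hc0
      rw [deg_eq_zero_of_isZero k (isZero_of_rank_zero hQ'), add_zero] at hd'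
      have : r = r' := by omega
      subst this
      rw [hd']
      exact h1
    · have := hS.epi_g
      have h2 := hq Q' c p hS.epi_g hc0 hQ'
      generalize Curv2.deg k X E r = dE at *
      generalize Curv2.deg k X G r' = dG at *
      generalize Curv2.deg k X Gs r' = dGs at *
      generalize Curv2.deg k X Q' c = dQ at *
      rw [hd', hrc'] at h2 ⊢
      rw [hrc'] at h1
      nlinarith
  · obtain ⟨a, ha, hra, hd⟩ := exists_kernel_decomp k hdim r s hE hF p
    have hra' : (r : ℤ) = (a : ℤ) + (s : ℤ) := by exact_mod_cast hra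
    rcases Nat.eq_zero_or_pos a with ha0 | ha0
    · subst ha0
      rw [deg_eq_zero_of_isZero k (isZero_of_rank_zero ha), zero_add] at hd
      have : r = s := by omega
      subst this
      rw [hd]
    · have h2 := hs (kernel p) a (kernel.ι p) inferInstance ha0 ha
      generalize Curv2.deg k X E r = dE at *
      generalize Curv2.deg k X F s = dF at *
      generalize Curv2.deg k X (kernel p) a = dK at *
      rw [hd, hra'] at h2 ⊢
      nlinarith
  · have hle : r' ≤ r := rank_le_of_mono i r' r hG hE x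
    rcases Nat.eq_or_lt_of_le hle with heq | hlt
    · subst heq
      have h1 := deg_le_of_mono_generic_iso k hdim G E (isCoh_of_isFinLocFreeOfRank hG)
        (isCoh_of_isFinLocFreeOfRank hE) r' i (subsingleton_cokernel_generic i r' hG hE)
      have hne : Curv2.deg k X G r' ≠ Curv2.deg k X E r' := fun h => hni (h1.2.1 h)
      have hlt' : Curv2.deg k X G r' < Curv2.deg k X E r' := lt_of_le_of_ne h1.1 hne
      exact mul_lt_mul_of_pos_right hlt' hr'
    · obtain ⟨Gs, Q', is, p, w, c, hS, hGs, hQ', hrc, hdeg, -⟩ :=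
        exists_saturation k hdim i r' r hG hE
      have hd := Groth.Agent.S7643.result k X hdim _ hS r' r c hGs hE hQ'
      have hd' : Curv2.deg k X E r = Curv2.deg k X Gs r' + Curv2.deg k X Q' c := hd
      have hrc' : (r : ℤ) = (r' : ℤ) + (c : ℤ) := by exact_mod_cast hrc
      have h1 := mul_le_mul_of_nonneg_right hdeg hr'.le
      have hc0 : 0 < c := by omega
      have hpni : ¬ IsIso p := by
        intro hiso
        have := rank_le_of_mono p r c hE hQ' x
        omega
      have h2 := hq Q' c p hS.epi_g hc0 hQ' hpni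
      generalize Curv2.deg k X E r = dE at *
      generalize Curv2.deg k X G r' = dG at *
      generalize Curv2.deg k X Gs r' = dGs at *
      generalize Curv2.deg k X Q' c = dQ at *
      rw [hd', hrc'] at h2 ⊢
      rw [hrc'] at h1
      nlinarith
  · obtain ⟨a, ha, hra, hd⟩ := exists_kernel_decomp k hdim r s hE hF p
    have hra' : (r : ℤ) = (a : ℤ) + (s : ℤ) := by exact_mod_cast hra
    have ha0 : 0 < a := by
      by_contra ha0
      have ha' : a = 0 := by omega
      subst ha'
      have hm : Mono p := Preadditive.mono_of_isZero_kernel p (isZero_of_rank_zero ha)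
      exact hni (isIso_of_mono_of_epi p)
    have hKni : ¬ IsIso (kernel.ι p) := by
      intro hiso
      have hp0 : p = 0 := by
        rw [← cancel_epi (kernel.ι p), kernel.condition, comp_zero]
      have hz : IsZero F := IsZero.of_epi_eq_zero p hp0
      have := rank_eq_zero_of_isZero hF hz
      omega
    have h2 := hs (kernel p) a (kernel.ι p) inferInstance ha0 ha hKni
    generalize Curv2.deg k X E r = dE at *
    generalize Curv2.deg k X F s = dF at *
    generalize Curv2.deg k X (kernel p) a = dK at *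
    rw [hd, hra'] at h2 ⊢
    nlinarith

end Curve

end Groth.Agent.Lib.Helper2.DegAdd
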