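import Groth.Agent.Lib.Helper2.DegAdd.QuotSub

/-! # Semistable bundles of a fixed slope form an abelian category -/

set_option autoImplicit false
universe u v
open CategoryTheory CategoryTheory.Limits AlgebraicGeometry

namespace Groth.Agent.Lib.Helper2.DegAdd

theorem slope_transfer_eq (dG dA dB : ℤ) (rA rB n : ℕ) (hrA : 0 < rA)
    (hμ : dA * (rB : ℤ) = dB * (rA : ℤ)) (h : dG * (rA : ℤ) = dA * (n : ℤ)) :
    dG * (rB : ℤ) = dB * (n : ℤ) := by
  have hrA' : (rA : ℤ) ≠ 0 := by exact_mod_cast (Nat.pos_iff_ne_zero.1 hrA)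
  apply mul_right_cancel₀ hrA'
  calc dG * (rB : ℤ) * (rA : ℤ) = dG * (rA : ℤ) * (rB : ℤ) := by ring
    _ = dA * (n : ℤ) * (rB : ℤ) := by rw [h]
    _ = dA * (rB : ℤ) * (n : ℤ) := by ring
    _ = dB * (n : ℤ) * (rA : ℤ) := by rw [hμ]; ring

variable {X : Scheme.{u}}

section Curve
variable (k : Type u) [Field k] [X.Over (Spec (CommRingCat.of k))]
  [IsIntegral X] [IsProper (X ↘ Spec (CommRingCat.of k))]
  [Smooth (X ↘ Spec (CommRingCat.of k))]

set_option maxHeartbeats 1600000 in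
theorem ker_coker_semistable (hdim : topologicalKrullDim X ≤ 1)
    (r s : ℕ) (hr : 0 < r) (hs : 0 < s) (E F : X.Modules)
    (hE : FlatMod.IsFinLocFreeOfRank r E) (hF : FlatMod.IsFinLocFreeOfRank s F)
    (hEss : ∀ (G : X.Modules) (r' : ℕ) (i : G ⟶ E), Mono i → 0 < r' →
      FlatMod.IsFinLocFreeOfRank r' G →
      Curv2.deg k X G r' * (r : ℤ) ≤ Curv2.deg k X E r * (r' : ℤ))
    (hFss : ∀ (G : X.Modules) (r' : ℕ) (i : G ⟶ F), Mono i → 0 < r' →
      FlatMod.IsFinLocFreeOfRank r' G →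
      Curv2.deg k X G r' * (s : ℤ) ≤ Curv2.deg k X F s * (r' : ℤ))
    (hμ : Curv2.deg k X E r * (s : ℤ) = Curv2.deg k X F s * (r : ℤ)) (f : E ⟶ F) :
    (∃ r₀ : ℕ, FlatMod.IsFinLocFreeOfRank r₀ (kernel f) ∧
        Curv2.deg k X (kernel f) r₀ * (r : ℤ) = Curv2.deg k X E r * (r₀ : ℤ) ∧
        ∀ (G : X.Modules) (n : ℕ) (j : G ⟶ kernel f), Mono j → 0 < n →
          FlatMod.IsFinLocFreeOfRank n G →
          Curv2.deg k X G n * (r₀ : ℤ) ≤ Curv2.deg k X (kernel f) r₀ * (n : ℤ)) ∧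
      (∃ s₀ : ℕ, FlatMod.IsFinLocFreeOfRank s₀ (cokernel f) ∧
        Curv2.deg k X (cokernel f) s₀ * (s : ℤ) = Curv2.deg k X F s * (s₀ : ℤ) ∧
        ∀ (G : X.Modules) (n : ℕ) (j : G ⟶ cokernel f), Mono j → 0 < n →
          FlatMod.IsFinLocFreeOfRank n G →
          Curv2.deg k X G n * (s₀ : ℤ) ≤ Curv2.deg k X (cokernel f) s₀ * (n : ℤ)) := by
  have x : X := Classical.arbitrary X
  have hnoeth : IsLocallyNoetherian X :=
    LocallyOfFiniteType.isLocallyNoetherian (X ↘ Spec (CommRingCat.of k))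
  have hr' : (0 : ℤ) < (r : ℤ) := by exact_mod_cast hr
  have hs' : (0 : ℤ) < (s : ℤ) := by exact_mod_cast hs
  obtain ⟨a, b, ha, hb, hrab, hd⟩ := exists_ker_im_decomp k hdim r s hE hF f
  have hrab' : (r : ℤ) = (a : ℤ) + (b : ℤ) := by exact_mod_cast hrab
  -- slopes of kernel and image
  have hKle : Curv2.deg k X (kernel f) a * (r : ℤ) ≤ Curv2.deg k X E r * (a : ℤ) := by
    rcases Nat.eq_zero_or_pos a with ha0 | ha0
    · subst ha0
      rw [deg_eq_zero_of_isZero k (isZero_of_rank_zero ha)]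
      simp
    · exact hEss _ a (kernel.ι f) inferInstance ha0 ha
  have hIle : Curv2.deg k X (Abelian.image f) b * (r : ℤ) ≤ Curv2.deg k X E r * (b : ℤ) := by
    rcases Nat.eq_zero_or_pos b with hb0 | hb0
    · subst hb0
      rw [deg_eq_zero_of_isZero k (isZero_of_rank_zero hb)]
      simp
    · exact slope_transfer _ _ _ s r b hs hμ.symm
        (hFss _ b (Abelian.image.ι f) inferInstance hb0 hb)
  have hKeq : Curv2.deg k X (kernel f) a * (r : ℤ) = Curv2.deg k X E r * (a : ℤ) := by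
    rw [hd, hrab'] at hKle hIle ⊢
    linarith only [hKle, hIle]
  have hIeq : Curv2.deg k X (Abelian.image f) b * (r : ℤ) = Curv2.deg k X E r * (b : ℤ) := by
    rw [hd, hrab'] at hKle hIle ⊢
    linarith only [hKle, hIle]
  have hIeqF : Curv2.deg k X (Abelian.image f) b * (s : ℤ) = Curv2.deg k X F s * (b : ℤ) :=
    slope_transfer_eq _ _ _ r s b hr hμ hIeq
  refine ⟨⟨a, ha, hKeq, fun G n j hj hn hG => ?_⟩, ?_⟩
  · have hm : Mono (j ≫ kernel.ι f) := mono_comp _ _
    have h := hEss G n (j ≫ kernel.ι f) hm hn hG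
    exact slope_transfer _ _ _ r a n hr hKeq.symm h
  -- the cokernel
  have hEc := isCoh_of_isFinLocFreeOfRank hE
  have hFc := isCoh_of_isFinLocFreeOfRank hF
  have hIc := isCoh_of_isFinLocFreeOfRank hb
  have hCc : Coh.IsCoh (cokernel f) := Groth.Agent.Lib.Helper12.H12Dev.isCoh_cokernel f hEc hFc
  have hSI : (ShortComplex.mk (Abelian.image.ι f) (cokernel.π f)
      (kernel.condition (cokernel.π f))).ShortExact :=
    ShortComplex.ShortExact.mk (ShortComplex.exact_kernel (cokernel.π f))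
  obtain ⟨T, C', jT, pC, w₀, c', hS₀, hTc, hTgen, hC', hgrC, hz, heul, hsub⟩ :=
    exists_torsion_sequence k hdim (cokernel f) hCc
  have hpC : Epi pC := hS₀.epi_g
  have hπe : Epi (cokernel.π f ≫ pC) := epi_comp _ _
  obtain ⟨a', ha', hsa', hdF⟩ := exists_kernel_decomp k hdim s c' hF hC' (cokernel.π f ≫ pC)
  have hgr := grank_add _ hSI hIc hFc hCc
  have hgr' : grank F = grank (Abelian.image f) + grank (cokernel f) := hgr
  rw [grank_of_isFinLocFreeOfRank hF, grank_of_isFinLocFreeOfRank hb, hgrC] at hgr'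
  have hab : a' = b := by omega
  subst hab
  have heulF := Groth.Agent.S1524.result k X _ hSI hIc hFc hCc
  have heulF' : Curv2.euler k X F = Curv2.euler k X (Abelian.image f) +
      Curv2.euler k X (cokernel f) := heulF
  have hdegIs : Curv2.deg k X (kernel (cokernel.π f ≫ pC)) a' =
      Curv2.deg k X (Abelian.image f) a' + (Module.finrank k (Coh.HH X T 0) : ℤ) := by
    have hsa'' : (s : ℤ) = (a' : ℤ) + (c' : ℤ) := by exact_mod_cast hsa'
    unfold Curv2.deg at hdF ⊢
    rw [heulF', heul, hsa''] at hdF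
    linarith only [hdF]
  have hT0 : Module.finrank k (Coh.HH X T 0) = 0 := by
    have hnn : (0 : ℤ) ≤ (Module.finrank k (Coh.HH X T 0) : ℤ) := Int.natCast_nonneg _
    have hle : (Module.finrank k (Coh.HH X T 0) : ℤ) ≤ 0 := by
      rcases Nat.eq_zero_or_pos a' with hb0 | hb0
      · subst hb0
        rw [deg_eq_zero_of_isZero k (isZero_of_rank_zero ha'),
          deg_eq_zero_of_isZero k (isZero_of_rank_zero hb)] at hdegIs
        linarith only [hdegIs]
      · have h := hFss _ a' (kernel.ι (cokernel.π f ≫ pC)) inferInstance hb0 ha'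
        rw [hdegIs] at h
        nlinarith only [h, hIeqF, hs', hnn]
    exact_mod_cast le_antisymm hle hnn
  have hfinT : Module.Finite k (Coh.HH X T 0) := Groth.Agent.S0002.result k X _ hTc 0
  have hTz : IsZero T := hsub (Module.finrank_zero_iff.1 hT0)
  have hCf : FlatMod.IsFinLocFreeOfRank c' (cokernel f) := hz hTz
  have hdC := Groth.Agent.S7643.result k X hdim _ hSI a' s c' hb hF hCf
  have hdC' : Curv2.deg k X F s = Curv2.deg k X (Abelian.image f) a' +
      Curv2.deg k X (cokernel f) c' := hdC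
  have hsa'' : (s : ℤ) = (a' : ℤ) + (c' : ℤ) := by exact_mod_cast hsa'
  have hCeq : Curv2.deg k X (cokernel f) c' * (s : ℤ) = Curv2.deg k X F s * (c' : ℤ) := by
    rw [hdC', hsa''] at hIeqF ⊢
    linarith only [hIeqF]
  refine ⟨c', hCf, hCeq, fun G n j hj hn hG => ?_⟩
  obtain ⟨α, hβ, hα, hSE⟩ := exists_shortExact_pullback _ hSI j
  have hPc : Coh.IsCoh (pullback (cokernel.π f) j) :=
    isCoh_of_shortExact _ hSE hIc (isCoh_of_isFinLocFreeOfRank hG)
  have hmf : Mono (pullback.fst (cokernel.π f) j) := inferInstance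
  obtain ⟨m, hm⟩ := exists_rank_of_mono k hdim (pullback.fst (cokernel.π f) j) hPc
    (Groth.Agent.Lib.Helper29.QCoh.isFinLocFree_of_isFinLocFreeOfRank hF)
  have hrk := rank_add_of_shortExact _ hSE a' m n hb hm hG x
  have hdg := Groth.Agent.S7643.result k X hdim _ hSE a' m n hb hm hG
  have hdg' : Curv2.deg k X (pullback (cokernel.π f) j) m =
      Curv2.deg k X (Abelian.image f) a' + Curv2.deg k X G n := hdg
  have hm0 : 0 < m := by omega
  have h := hFss _ m (pullback.fst (cokernel.π f) j) hmf hm0 hm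
  have hmk : (m : ℤ) = (a' : ℤ) + (n : ℤ) := by exact_mod_cast hrk
  have h' : Curv2.deg k X G n * (s : ℤ) ≤ Curv2.deg k X F s * (n : ℤ) := by
    rw [hdg', hmk] at h
    linarith only [h, hIeqF]
  exact slope_transfer _ _ _ s c' n hs hCeq.symm h'

end Curve

end Groth.Agent.Lib.Helper2.DegAdd
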