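import Groth.Agent.Lib.Helper2.DegAdd.RankTwo

/-! # Semistability of extensions of equal slope -/

set_option autoImplicit false
universe u v
open CategoryTheory CategoryTheory.Limits AlgebraicGeometry

namespace Groth.Agent.Lib.Helper2.DegAdd

section Abstract
variable {C : Type u} [Category.{v} C] [Abelian C]

theorem shortExact_pullback_aux (S : ShortComplex C) (hS : S.ShortExact) {G : C} (i : G ⟶ S.X₃)
    (α : S.X₁ ⟶ pullback S.g i) (hα : α ≫ pullback.fst S.g i = S.f)
    (hβ : α ≫ pullback.snd S.g i = 0) :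
    (ShortComplex.mk α (pullback.snd S.g i) hβ).ShortExact := by
  have := hS.mono_f
  have := hS.epi_g
  have hm : Mono α := by
    have : Mono (α ≫ pullback.fst S.g i) := by rw [hα]; infer_instance
    exact mono_of_mono _ (pullback.fst S.g i)
  have he : Epi (pullback.snd S.g i) := inferInstance
  have hex : (ShortComplex.mk α (pullback.snd S.g i) hβ).Exact := by
    apply ShortComplex.exact_of_f_is_kernel
    refine KernelFork.IsLimit.ofι _ _
      (fun {W} x hx => hS.exact.lift (x ≫ pullback.fst S.g i)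
        (by rw [Category.assoc, pullback.condition, ← Category.assoc, hx, zero_comp]))
      (fun {W} x hx => ?_) (fun {W} x hx m hm => ?_)
    · apply pullback.hom_ext
      · rw [Category.assoc, hα, ShortComplex.Exact.lift_f]
      · rw [Category.assoc, hβ, comp_zero]
        exact hx.symm
    · rw [← cancel_mono S.f]
      simp only [ShortComplex.Exact.lift_f]
      rw [← hm, Category.assoc, hα]
  exact ShortComplex.ShortExact.mk hex

/-- pulling back a short exact sequence along a morphism into the quotient -/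
theorem exists_shortExact_pullback (S : ShortComplex C) (hS : S.ShortExact) {G : C}
    (i : G ⟶ S.X₃) :
    ∃ (α : S.X₁ ⟶ pullback S.g i) (hβ : α ≫ pullback.snd S.g i = 0),
      α ≫ pullback.fst S.g i = S.f ∧ (ShortComplex.mk α (pullback.snd S.g i) hβ).ShortExact :=
  ⟨pullback.lift S.f 0 (by rw [S.zero, zero_comp]), pullback.lift_snd _ _ _,
    pullback.lift_fst _ _ _,
    shortExact_pullback_aux S hS i _ (pullback.lift_fst _ _ _) (pullback.lift_snd _ _ _)⟩

end Abstract

theorem slope_transfer (dG dA dB : ℤ) (rA rB n : ℕ) (hrA : 0 < rA)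
    (hμ : dA * (rB : ℤ) = dB * (rA : ℤ)) (h : dG * (rA : ℤ) ≤ dA * (n : ℤ)) :
    dG * (rB : ℤ) ≤ dB * (n : ℤ) := by
  have hrA' : (0 : ℤ) < (rA : ℤ) := by exact_mod_cast hrA
  have hrB' : (0 : ℤ) ≤ (rB : ℤ) := Int.natCast_nonneg _
  have h1 := mul_le_mul_of_nonneg_right h hrB'
  apply le_of_mul_le_mul_right _ hrA'
  calc dG * (rB : ℤ) * (rA : ℤ) = dG * (rA : ℤ) * (rB : ℤ) := by ring
    _ ≤ dA * (n : ℤ) * (rB : ℤ) := h1
    _ = dA * (rB : ℤ) * (n : ℤ) := by ring
    _ = dB * (n : ℤ) * (rA : ℤ) := by rw [hμ]; ring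

variable {X : Scheme.{u}}

theorem semistable_extension_iff (k : Type u) [Field k] [X.Over (Spec (CommRingCat.of k))]
    [IsIntegral X] [IsProper (X ↘ Spec (CommRingCat.of k))]
    [Smooth (X ↘ Spec (CommRingCat.of k))] (hdim : topologicalKrullDim X ≤ 1)
    (T : ShortComplex X.Modules) (hT : T.ShortExact)
    (r₁ r r₂ : ℕ) (hr₁ : 0 < r₁) (hr : 0 < r) (hr₂ : 0 < r₂)
    (hE₁ : FlatMod.IsFinLocFreeOfRank r₁ T.X₁) (hE : FlatMod.IsFinLocFreeOfRank r T.X₂)
    (hE₂ : FlatMod.IsFinLocFreeOfRank r₂ T.X₃)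
    (hμ₁ : Curv2.deg k X T.X₁ r₁ * (r : ℤ) = Curv2.deg k X T.X₂ r * (r₁ : ℤ))
    (hμ₂ : Curv2.deg k X T.X₃ r₂ * (r : ℤ) = Curv2.deg k X T.X₂ r * (r₂ : ℤ)) :
    (∀ (G : X.Modules) (r' : ℕ) (i : G ⟶ T.X₂), Mono i → 0 < r' →
      FlatMod.IsFinLocFreeOfRank r' G →
      Curv2.deg k X G r' * (r : ℤ) ≤ Curv2.deg k X T.X₂ r * (r' : ℤ)) ↔
      ((∀ (G : X.Modules) (r' : ℕ) (i : G ⟶ T.X₁), Mono i → 0 < r' →
        FlatMod.IsFinLocFreeOfRank r' G →
        Curv2.deg k X G r' * (r₁ : ℤ) ≤ Curv2.deg k X T.X₁ r₁ * (r' : ℤ)) ∧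
       (∀ (G : X.Modules) (r' : ℕ) (i : G ⟶ T.X₃), Mono i → 0 < r' →
        FlatMod.IsFinLocFreeOfRank r' G →
        Curv2.deg k X G r' * (r₂ : ℤ) ≤ Curv2.deg k X T.X₃ r₂ * (r' : ℤ))) := by
  have x : X := Classical.arbitrary X
  have := hT.mono_f
  have := hT.epi_g
  constructor
  · intro hss
    refine ⟨fun G r' i hi hr' hG => ?_, fun G r' i hi hr' hG => ?_⟩
    · have hm : Mono (i ≫ T.f) := mono_comp i T.f
      have h := hss G r' (i ≫ T.f) hm hr' hG
      exact slope_transfer _ _ _ r r₁ r' hr hμ₁.symm h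
    · obtain ⟨α, hβ, hα, hSE⟩ := exists_shortExact_pullback T hT i
      have hPc : Coh.IsCoh (pullback T.g i) :=
        isCoh_of_shortExact _ hSE (isCoh_of_isFinLocFreeOfRank hE₁)
          (isCoh_of_isFinLocFreeOfRank hG)
      have hmf : Mono (pullback.fst T.g i) := inferInstance
      obtain ⟨c, hc⟩ := exists_rank_of_mono k hdim (pullback.fst T.g i) hPc
        (Groth.Agent.Lib.Helper29.QCoh.isFinLocFree_of_isFinLocFreeOfRank hE)
      have hrk := rank_add_of_shortExact _ hSE r₁ c r' hE₁ hc hG x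
      have hdg := Groth.Agent.S7643.result k X hdim _ hSE r₁ c r' hE₁ hc hG
      have hdg' : Curv2.deg k X (pullback T.g i) c =
          Curv2.deg k X T.X₁ r₁ + Curv2.deg k X G r' := hdg
      have hc0 : 0 < c := by omega
      have h := hss (pullback T.g i) c (pullback.fst T.g i) hmf hc0 hc
      have hck : (c : ℤ) = (r₁ : ℤ) + (r' : ℤ) := by exact_mod_cast hrk
      have h' : Curv2.deg k X G r' * (r : ℤ) ≤ Curv2.deg k X T.X₂ r * (r' : ℤ) := by
        rw [hdg', hck] at h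
        nlinarith
      exact slope_transfer _ _ _ r r₂ r' hr hμ₂.symm h'
  · rintro ⟨h₁, h₂⟩ G r' i hi hr' hG
    obtain ⟨a, b, ha, hb, hrab, hd⟩ := exists_ker_im_decomp k hdim r' r₂ hG hE₂ (i ≫ T.g)
    have hu : (hT.exact.lift (kernel.ι (i ≫ T.g) ≫ i)
        (by rw [Category.assoc]; exact kernel.condition (i ≫ T.g))) ≫ T.f =
        kernel.ι (i ≫ T.g) ≫ i := hT.exact.lift_f _ _
    have hmu : Mono (hT.exact.lift (kernel.ι (i ≫ T.g) ≫ i)
        (by rw [Category.assoc]; exact kernel.condition (i ≫ T.g))) := by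
      have hmm : Mono (kernel.ι (i ≫ T.g) ≫ i) := mono_comp _ _
      have : Mono ((hT.exact.lift (kernel.ι (i ≫ T.g) ≫ i)
        (by rw [Category.assoc]; exact kernel.condition (i ≫ T.g))) ≫ T.f) := by
        rw [hu]; exact hmm
      exact mono_of_mono _ T.f
    have hK : Curv2.deg k X (kernel (i ≫ T.g)) a * (r : ℤ) ≤
        Curv2.deg k X T.X₂ r * (a : ℤ) := by
      rcases Nat.eq_zero_or_pos a with ha0 | ha0
      · subst ha0
        rw [deg_eq_zero_of_isZero k (isZero_of_rank_zero ha)]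
        simp
      · exact slope_transfer _ _ _ r₁ r a hr₁ hμ₁ (h₁ _ a _ hmu ha0 ha)
    have hI : Curv2.deg k X (Abelian.image (i ≫ T.g)) b * (r : ℤ) ≤
        Curv2.deg k X T.X₂ r * (b : ℤ) := by
      rcases Nat.eq_zero_or_pos b with hb0 | hb0
      · subst hb0
        rw [deg_eq_zero_of_isZero k (isZero_of_rank_zero hb)]
        simp
      · exact slope_transfer _ _ _ r₂ r b hr₂ hμ₂
          (h₂ _ b (Abelian.image.ι (i ≫ T.g)) inferInstance hb0 hb)
    have hrab' : (r' : ℤ) = (a : ℤ) + (b : ℤ) := by exact_mod_cast hrab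
    rw [hd, hrab']
    nlinarith

end Groth.Agent.Lib.Helper2.DegAdd
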