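import Groth.Agent.Lib.Helper2.DegAdd.SSExt
import Groth.Agent.Lib.Helper9.RefStalk2

/-! # Torsion-free quotients of coherent modules on a smooth curve (via the bidual) -/

set_option autoImplicit false
universe u v
open CategoryTheory CategoryTheory.Limits AlgebraicGeometry

namespace Groth.Agent.Lib.Helper2.DegAdd

theorem noZeroSMulDivisors_dual (R M : Type*) [CommRing R] [IsDomain R] [AddCommGroup M]
    [Module R M] : NoZeroSMulDivisors R (Module.Dual R M) := by
  refine ⟨fun {c θ} h => ?_⟩
  by_cases hc : c = 0
  · exact Or.inl hc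
  · right
    ext v
    have h1 : (c • θ) v = 0 := by rw [h]; rfl
    rw [LinearMap.smul_apply, smul_eq_mul] at h1
    exact (mul_eq_zero.1 h1).resolve_left hc

variable {X : Scheme.{u}}

theorem isCoh_homSh [IsLocallyNoetherian X] (F G : X.Modules) (hF : Coh.IsCoh F)
    (hG : Coh.IsCoh G) : Coh.IsCoh (RefHull.homSh F G) := by
  have hfp : (RefHull.homSh F G).IsFinitePresentation :=
    Groth.Agent.Lib.Helper9.RefStalk.isFP_homSh F G hF hG
  have := hF.1
  have := hG.1
  have := Groth.Agent.Lib.Helper29.QCoh.isFinitePresentation_of_isCoh F hF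
  have := Groth.Agent.Lib.Helper29.QCoh.HomSec.isQuasicoherent_homSh F G
  exact ⟨inferInstance, inferInstance⟩

theorem isCoh_dual [IsLocallyNoetherian X] (F : X.Modules) (hF : Coh.IsCoh F) :
    Coh.IsCoh (RefHull.dual F) :=
  isCoh_homSh F _ hF (Groth.Agent.Lib.Helper9.RefStalk.isCoh_unit X)

/-- the dual of a coherent module on a regular integral scheme of dimension `≤ 1` is finite
locally free -/
theorem isFinLocFree_dual [IsIntegral X] [IsLocallyNoetherian X]
    (hreg : ∀ x : X, IsRegularLocalRing (X.presheaf.stalk x)) (hdim : topologicalKrullDim X ≤ 1)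
    (F : X.Modules) (hF : Coh.IsCoh F) : FlatMod.IsFinLocFree (RefHull.dual F) := by
  rw [← Groth.Agent.Lib.Helper29.QCoh.torsionFree_iff_isFinLocFree hreg hdim _ (isCoh_dual F hF)]
  intro x
  have hfp : CohB1.IsFP F := Groth.Agent.Lib.Helper29.QCoh.isFinitePresentation_of_isCoh F hF
  have hN := noZeroSMulDivisors_dual (X.presheaf.stalk x) (F.presheaf.stalk x)
  exact Function.Injective.noZeroSMulDivisors
    (R := X.presheaf.stalk x) (M := (RefHull.dual F).presheaf.stalk x)
    (N := Module.Dual (X.presheaf.stalk x) (F.presheaf.stalk x))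
    (Groth.Agent.Lib.Helper9.RefStalk.dualStalkEquiv F hfp x)
    (Groth.Agent.Lib.Helper9.RefStalk.dualStalkEquiv F hfp x).injective (map_zero _)
    (fun c m => map_smul _ c m)

/-- the bidual map of a coherent module on an integral scheme is injective at the generic point -/
theorem subsingleton_kernel_bidual_generic [IsIntegral X] [IsLocallyNoetherian X]
    (Q : X.Modules) (hQ : Coh.IsCoh Q) :
    Subsingleton ((kernel (RefHull.bidualMap Q)).presheaf.stalk (genericPoint X)) := by
  have hfp : CohB1.IsFP Q := Groth.Agent.Lib.Helper29.QCoh.isFinitePresentation_of_isCoh Q hQ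
  have hD : CohB1.IsFP (RefHull.dual Q) :=
    Groth.Agent.Lib.Helper29.QCoh.isFinitePresentation_of_isCoh _ (isCoh_dual Q hQ)
  have hrefl : RefHull.IsReflexiveAt Q (genericPoint X) := by
    unfold RefHull.IsReflexiveAt
    letI : Field (X.presheaf.stalk (genericPoint X)) :=
      (inferInstance : Field X.functionField)
    have : Q.IsFinitePresentation := hfp
    have := Groth.Agent.Lib.Helper29.QCoh.finitePresentation_stalk Q (genericPoint X)
    have : Module.Finite (X.presheaf.stalk (genericPoint X))
      (Q.presheaf.stalk (genericPoint X)) := inferInstance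
    have : Module.Free (X.presheaf.stalk (genericPoint X))
      (Q.presheaf.stalk (genericPoint X)) := Module.Free.of_divisionRing _ _
    infer_instance
  have hbij := (Groth.Agent.Lib.Helper9.RefStalk.stalkMapₗ_bidualMap_bijective_iff Q hfp hD
    (genericPoint X)).2 hrefl
  have hinj : Function.Injective
      (Groth.Agent.Lib.Helper29.QCoh.stalkMap (RefHull.bidualMap Q) (genericPoint X)) := by
    intro a b hab
    apply hbij.1
    rw [Groth.Agent.Lib.Helper12.H12Dev.stalkMapₗ_apply,
      Groth.Agent.Lib.Helper12.H12Dev.stalkMapₗ_apply]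
    exact hab
  have := Groth.Agent.Lib.Helper12.H12Dev.notMem_support_kernel (RefHull.bidualMap Q)
    (genericPoint X) hinj
  exact (Groth.Agent.Lib.Helper12.H12Dev.notMem_support_iff _ _).1 this

end Groth.Agent.Lib.Helper2.DegAdd

namespace Groth.Agent.Lib.Helper2.DegAdd

variable {X : Scheme.{u}}

/-- the rank at the generic point -/
noncomputable def grank [IsIntegral X] (M : X.Modules) : ℕ :=
  Module.finrank (X.presheaf.stalk (genericPoint X)) (M.presheaf.stalk (genericPoint X))

theorem grank_of_isFinLocFreeOfRank [IsIntegral X] {n : ℕ} {M : X.Modules}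
    (h : FlatMod.IsFinLocFreeOfRank n M) : grank M = n :=
  finrank_stalk_of_isFinLocFreeOfRank h _

theorem grank_eq_zero [IsIntegral X] {M : X.Modules}
    (h : Subsingleton (M.presheaf.stalk (genericPoint X))) : grank M = 0 := by
  unfold grank
  exact Module.finrank_zero_of_subsingleton

/-- generic ranks are additive in short exact sequences of coherent modules -/
theorem grank_add [IsIntegral X] [IsLocallyNoetherian X] (S : ShortComplex X.Modules)
    (hS : S.ShortExact) (h₁ : Coh.IsCoh S.X₁) (h₂ : Coh.IsCoh S.X₂) (h₃ : Coh.IsCoh S.X₃) :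
    grank S.X₂ = grank S.X₁ + grank S.X₃ := by
  have hS' : (S.map (DerSch.stalkFunctor X (genericPoint X))).ShortExact := hS.map_of_exact _
  have hex := (ShortComplex.ShortExact.moduleCat_exact_iff_function_exact _).1 hS'.exact
  have hinj : Function.Injective ((DerSch.stalkFunctor X (genericPoint X)).map S.f).hom :=
    (ModuleCat.mono_iff_injective _).1 hS'.mono_f
  have hsurj : Function.Surjective ((DerSch.stalkFunctor X (genericPoint X)).map S.g).hom :=
    (ModuleCat.epi_iff_surjective _).1 hS'.epi_g
  have hfp₁ : S.X₁.IsFinitePresentation :=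
    Groth.Agent.Lib.Helper29.QCoh.isFinitePresentation_of_isCoh _ h₁
  have hfp₃ : S.X₃.IsFinitePresentation :=
    Groth.Agent.Lib.Helper29.QCoh.isFinitePresentation_of_isCoh _ h₃
  have := Groth.Agent.Lib.Helper29.QCoh.finitePresentation_stalk S.X₁ (genericPoint X)
  have := Groth.Agent.Lib.Helper29.QCoh.finitePresentation_stalk S.X₃ (genericPoint X)
  letI : Field (X.presheaf.stalk (genericPoint X)) :=
    (inferInstance : Field X.functionField)
  have hfin₁ : Module.Finite (X.presheaf.stalk (genericPoint X))
    (S.X₁.presheaf.stalk (genericPoint X)) := inferInstance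
  have hfin₃ : Module.Finite (X.presheaf.stalk (genericPoint X))
    (S.X₃.presheaf.stalk (genericPoint X)) := inferInstance
  have hf₁ : Module.Free (X.presheaf.stalk (genericPoint X))
    (S.X₁.presheaf.stalk (genericPoint X)) := Module.Free.of_divisionRing _ _
  have hf₃ : Module.Free (X.presheaf.stalk (genericPoint X))
    (S.X₃.presheaf.stalk (genericPoint X)) := Module.Free.of_divisionRing _ _
  exact finrank_add_of_exact (R := X.presheaf.stalk (genericPoint X))
    (A := S.X₁.presheaf.stalk (genericPoint X)) (B := S.X₂.presheaf.stalk (genericPoint X))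
    (C := S.X₃.presheaf.stalk (genericPoint X))
    ((DerSch.stalkFunctor X (genericPoint X)).map S.f).hom
    ((DerSch.stalkFunctor X (genericPoint X)).map S.g).hom hinj hsurj hex

section Curve
variable (k : Type u) [Field k] [X.Over (Spec (CommRingCat.of k))]
  [IsIntegral X] [IsProper (X ↘ Spec (CommRingCat.of k))]
  [Smooth (X ↘ Spec (CommRingCat.of k))]

/-- the torsion sequence `0 → T → Q → Q' → 0` of a coherent module on a smooth proper integral
curve: `Q'` is locally free and `T` vanishes at the generic point -/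
theorem exists_torsion_sequence (hdim : topologicalKrullDim X ≤ 1) (Q : X.Modules)
    (hQ : Coh.IsCoh Q) :
    ∃ (T Q' : X.Modules) (j : T ⟶ Q) (p : Q ⟶ Q') (w : j ≫ p = 0) (c : ℕ),
      (ShortComplex.mk j p w).ShortExact ∧ Coh.IsCoh T ∧
      Subsingleton (T.presheaf.stalk (genericPoint X)) ∧
      FlatMod.IsFinLocFreeOfRank c Q' ∧ grank Q = c ∧
      (IsZero T → FlatMod.IsFinLocFreeOfRank c Q) ∧
      Curv2.euler k X Q = (Module.finrank k (Coh.HH X T 0) : ℤ) + Curv2.euler k X Q' ∧
      (Subsingleton (Coh.HH X T 0) → IsZero T) := by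
  have hnoeth : IsLocallyNoetherian X :=
    LocallyOfFiniteType.isLocallyNoetherian (X ↘ Spec (CommRingCat.of k))
  have hreg : ∀ x : X, IsRegularLocalRing (X.presheaf.stalk x) :=
    fun x => Groth.Agent.S1535.result k X x
  have hDc : Coh.IsCoh (RefHull.dual Q) := isCoh_dual Q hQ
  have hDDc : Coh.IsCoh (RefHull.ddual Q) := isCoh_dual _ hDc
  have hDDf : FlatMod.IsFinLocFree (RefHull.ddual Q) := isFinLocFree_dual hreg hdim _ hDc
  have hTc : Coh.IsCoh (kernel (RefHull.bidualMap Q)) :=
    Groth.Agent.Lib.Helper12.H12Dev.isCoh_kernel _ hQ hDDc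
  have hIc : Coh.IsCoh (Abelian.image (RefHull.bidualMap Q)) :=
    Groth.Agent.Lib.Helper12.H12Dev.isCoh_image _ hQ hDDc
  obtain ⟨c, hc⟩ := exists_rank_of_mono k hdim (Abelian.image.ι (RefHull.bidualMap Q)) hIc hDDf
  have hS := shortExact_kernel_factorThruImage (RefHull.bidualMap Q)
  have hgen := subsingleton_kernel_bidual_generic Q hQ
  have hgr := grank_add _ hS hTc hQ hIc
  have hgr' : grank Q = c := by
    have h1 : grank Q = grank (kernel (RefHull.bidualMap Q)) +
        grank (Abelian.image (RefHull.bidualMap Q)) := hgr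
    rw [h1, grank_eq_zero hgen, grank_of_isFinLocFreeOfRank hc, zero_add]
  have := hTc.2
  have hhered := hered_of_generic_zero hdim (kernel (RefHull.bidualMap Q)) hgen
  have hvan : ∀ m : ℕ, Subsingleton (Coh.HH X (kernel (RefHull.bidualMap Q)) (m + 1)) :=
    fun m => Groth.Agent.Lib.Helper29.QCoh.subsingleton_HH_succ_of_support_hereditarily_closed
      _ hhered m
  have heulT := euler_eq_h0 k (kernel (RefHull.bidualMap Q)) hvan
  have heul := Groth.Agent.S1524.result k X _ hS hTc hQ hIc
  have heul' : Curv2.euler k X Q = Curv2.euler k X (kernel (RefHull.bidualMap Q)) +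
      Curv2.euler k X (Abelian.image (RefHull.bidualMap Q)) := heul
  refine ⟨kernel (RefHull.bidualMap Q), Abelian.image (RefHull.bidualMap Q),
    kernel.ι _, Abelian.factorThruImage _, kernel_ι_factorThruImage _, c, hS, hTc, hgen, hc,
    hgr', ?_, ?_, ?_⟩
  · intro hz
    have hm : Mono (RefHull.bidualMap Q) := Preadditive.mono_of_isZero_kernel _ hz
    obtain ⟨n, hn⟩ := exists_rank_of_mono k hdim (RefHull.bidualMap Q) hQ hDDf
    have : n = c := by rw [← grank_of_isFinLocFreeOfRank hn, hgr']
    rw [← this]
    exact hn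
  · rw [heul', heulT]
  · intro hsub
    exact isZero_of_subsingleton_h0 _ hhered hsub

end Curve

end Groth.Agent.Lib.Helper2.DegAdd
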