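import Groth.Agent.Lib.Helper2.DegAdd.Bound
import Groth.Agent.Lib.Helper29.RegDim1
import Groth.Agent.Lib.Helper12.Dev2
import Groth.Agent.S1535

/-! # Coherent submodules of finite locally free modules on a smooth curve are locally free -/

set_option autoImplicit false
universe u
open CategoryTheory CategoryTheory.Limits AlgebraicGeometry

namespace Groth.Agent.Lib.Helper2.DegAdd

variable {X : Scheme.{u}}

/-- on an integral scheme a finite locally free module has constant rank -/
theorem exists_rank_of_isFinLocFree [IsIntegral X] {M : X.Modules}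
    (h : FlatMod.IsFinLocFree M) : ∃ n, FlatMod.IsFinLocFreeOfRank n M := by
  refine ⟨Module.finrank (X.presheaf.stalk (genericPoint X))
    (M.presheaf.stalk (genericPoint X)), ?_⟩
  intro x
  obtain ⟨U, m, hx, ⟨e⟩⟩ := h x
  have hη : genericPoint X ∈ U := (genericPoint_specializes x).mem_open U.2 hx
  have hm := Groth.Agent.Lib.Helper28.TrivLocus.finrank_stalk_of_restrict_iso U.ι
    ⟨genericPoint X, hη⟩ m e
  have hm' : Module.finrank (X.presheaf.stalk (genericPoint X))
      (M.presheaf.stalk (genericPoint X)) = m := hm
  rw [hm']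
  exact ⟨U, hx, ⟨e⟩⟩

/-- a coherent submodule of a finite locally free module on a regular integral scheme of
dimension `≤ 1` is finite locally free -/
theorem isFinLocFree_of_mono [IsIntegral X] [IsLocallyNoetherian X]
    (hreg : ∀ x : X, IsRegularLocalRing (X.presheaf.stalk x)) (hdim : topologicalKrullDim X ≤ 1)
    {G E : X.Modules} (i : G ⟶ E) [Mono i] (hG : Coh.IsCoh G) (hE : FlatMod.IsFinLocFree E) :
    FlatMod.IsFinLocFree G := by
  rw [← Groth.Agent.Lib.Helper29.QCoh.torsionFree_iff_isFinLocFree hreg hdim G hG]
  intro x
  have hm : Mono ((DerSch.stalkFunctor X x).map i) := inferInstance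
  have hinj : Function.Injective ((DerSch.stalkFunctor X x).map i).hom :=
    (ModuleCat.mono_iff_injective _).1 hm
  have hfree := Groth.Agent.Lib.Helper29.QCoh.free_stalk_of_isFinLocFree hE x
  have hE' : NoZeroSMulDivisors (X.presheaf.stalk x) (E.presheaf.stalk x) :=
    Groth.Agent.Lib.Helper29.QCoh.noZeroSMulDivisors_of_free _ _
  exact Function.Injective.noZeroSMulDivisors
    (R := X.presheaf.stalk x) (M := G.presheaf.stalk x) (N := E.presheaf.stalk x)
    ((DerSch.stalkFunctor X x).map i).hom hinj (map_zero _) (fun c m => map_smul _ c m)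

/-- a coherent submodule of a finite locally free module on a smooth integral curve over a field
is finite locally free of constant rank -/
theorem exists_rank_of_mono (k : Type u) [Field k] [X.Over (Spec (CommRingCat.of k))]
    [IsIntegral X] [IsProper (X ↘ Spec (CommRingCat.of k))]
    [Smooth (X ↘ Spec (CommRingCat.of k))] (hdim : topologicalKrullDim X ≤ 1)
    {G E : X.Modules} (i : G ⟶ E) [Mono i] (hG : Coh.IsCoh G) (hE : FlatMod.IsFinLocFree E) :
    ∃ n, FlatMod.IsFinLocFreeOfRank n G := by
  have : IsLocallyNoetherian X :=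
    LocallyOfFiniteType.isLocallyNoetherian (X ↘ Spec (CommRingCat.of k))
  exact exists_rank_of_isFinLocFree
    (isFinLocFree_of_mono (fun x => Groth.Agent.S1535.result k X x) hdim i hG hE)

end Groth.Agent.Lib.Helper2.DegAdd
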